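import Mathlib

/-!
For a group of odd prime power order acting on a finite set some subset has a setwise stabiliser
which fixes every point (Gluck's lemma for `p`-groups).
-/

set_option autoImplicit false
set_option linter.unusedSectionVars false
set_option linter.style.haveILetI false

namespace Cfsg.Agent.Lib.RegularVector.BlockColoring

universe u v

variable {P : Type u} [Group P] [Finite P] {Ω : Type v} [MulAction P Ω]

open Classical in
/-- A maximal subgroup above a proper stabiliser: normal, of index `p`. -/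
theorem exists_index_prime {p : ℕ} [Fact p.Prime] (hP : IsPGroup p P) {K : Subgroup P} (hK : K ≠ ⊤) :
    ∃ M : Subgroup P, K ≤ M ∧ M.Normal ∧ M.index = p := by
  obtain ⟨n, hn⟩ := IsPGroup.iff_card.mp hP
  obtain ⟨i, hi, hKi⟩ := (Nat.dvd_prime_pow (Fact.out : p.Prime)).mp
    (hn ▸ Subgroup.card_subgroup_dvd_card K)
  have hin : i < n := by
    refine lt_of_le_of_ne hi fun e => hK (Subgroup.eq_top_of_card_eq K ?_)
    rw [hKi, e, hn]
  obtain ⟨M, hM, hle⟩ := Sylow.exists_subgroup_card_pow_prime_le p (G := P) (m := n - 1) (n := i)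
    (hn ▸ pow_dvd_pow p (Nat.sub_le n 1)) K hKi (by omega)
  have hidx : M.index = p := by
    have h := M.card_mul_index
    rw [hM, hn] at h
    refine Nat.eq_of_mul_eq_mul_left (pow_pos (Fact.out : p.Prime).pos (n - 1)) ?_
    rw [h, ← pow_succ, Nat.sub_add_cancel (by omega)]
  refine ⟨M, hle, ?_, hidx⟩
  refine Subgroup.normal_of_index_eq_minFac_card ?_
  rw [hidx, hn, (Fact.out : p.Prime).pow_minFac (by omega)]

open Classical in
theorem exists_aux {p : ℕ} [Fact p.Prime] (hP : IsPGroup p P) (hp : p ≠ 2) :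
    ∀ (n : ℕ) (Δ : Finset Ω), Δ.card = n → ∀ Q : Subgroup P,
      (∀ g ∈ Q, ∀ x ∈ Δ, g • x ∈ Δ) →
      ∃ S : Finset Ω, S ⊆ Δ ∧ ∀ g ∈ Q, (∀ x ∈ S, g • x ∈ S) → ∀ x ∈ Δ, g • x = x := by
  intro n
  induction n using Nat.strong_induction_on with
  | _ n ih =>
    intro Δ hΔn Q hQ
    by_cases h0 : Δ = ∅
    · exact ⟨∅, by simp, fun g _ _ x hx => absurd hx (by simp [h0])⟩
    obtain ⟨ω, hω⟩ := Finset.nonempty_iff_ne_empty.mpr h0
    let O : Finset Ω := Δ.filter fun x => ∃ g ∈ Q, g • ω = x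
    have hωO : ω ∈ O := Finset.mem_filter.mpr ⟨hω, 1, Q.one_mem, one_smul _ _⟩
    have hOinv : ∀ g ∈ Q, ∀ x ∈ O, g • x ∈ O := by
      intro g hg x hx
      obtain ⟨hxΔ, k, hk, hkx⟩ := Finset.mem_filter.mp hx
      exact Finset.mem_filter.mpr ⟨hQ g hg x hxΔ, g * k, Q.mul_mem hg hk, by rw [mul_smul, hkx]⟩
    by_cases hO : O = Δ
    swap
    · -- intransitive
      have hOlt : O.card < n := hΔn ▸ Finset.card_lt_card
        ((Finset.filter_subset _ _).ssubset_of_ne hO)
      have hrest : (Δ \ O).card < n := hΔn ▸ Finset.card_lt_card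
        (Finset.sdiff_ssubset (Finset.filter_subset _ _) ⟨ω, hωO⟩)
      have hrinv : ∀ g ∈ Q, ∀ x ∈ Δ \ O, g • x ∈ Δ \ O := by
        intro g hg x hx
        rw [Finset.mem_sdiff] at hx ⊢
        refine ⟨hQ g hg x hx.1, fun h => hx.2 ?_⟩
        have := hOinv g⁻¹ (Q.inv_mem hg) _ h
        rwa [inv_smul_smul] at this
      obtain ⟨S₁, hS₁, h₁⟩ := ih _ hOlt O rfl Q hOinv
      obtain ⟨S₂, hS₂, h₂⟩ := ih _ hrest (Δ \ O) rfl Q hrinv
      refine ⟨S₁ ∪ S₂, Finset.union_subset (hS₁.trans (Finset.filter_subset _ _))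
        (hS₂.trans Finset.sdiff_subset), fun g hg hS x hx => ?_⟩
      by_cases hxO : x ∈ O
      · refine h₁ g hg (fun y hy => ?_) x hxO
        rcases Finset.mem_union.mp (hS y (Finset.mem_union_left _ hy)) with h | h
        · exact h
        · exact absurd (hOinv g hg y (hS₁ hy)) (Finset.mem_sdiff.mp (hS₂ h)).2
      · refine h₂ g hg (fun y hy => ?_) x (Finset.mem_sdiff.mpr ⟨hx, hxO⟩)
        rcases Finset.mem_union.mp (hS y (Finset.mem_union_right _ hy)) with h | h
        · exact absurd (hS₁ h) (Finset.mem_sdiff.mp (hrinv g hg y (hS₂ hy))).2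
        · exact h
    -- transitive
    have htrans : ∀ x ∈ Δ, ∃ g ∈ Q, g • ω = x := fun x hx =>
      (Finset.mem_filter.mp (hO.symm ▸ hx : x ∈ O)).2
    set K := (MulAction.stabilizer P ω).subgroupOf Q with hK
    by_cases hKtop : K = ⊤
    · refine ⟨∅, by simp, fun g hg _ x hx => ?_⟩
      have hfix : ∀ k ∈ Q, k • ω = ω := fun k hk => by
        have : (⟨k, hk⟩ : Q) ∈ K := hKtop ▸ Subgroup.mem_top _
        exact this
      obtain ⟨k, hk, rfl⟩ := htrans x hx
      rw [hfix k hk, hfix g hg]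
    obtain ⟨M, hKM, hMn, hMp⟩ := exists_index_prime (hP.to_subgroup Q) hKtop
    let Δ₁ : Finset Ω := Δ.filter fun x => ∃ m : Q, m ∈ M ∧ (m : P) • ω = x
    have hωΔ₁ : ω ∈ Δ₁ := Finset.mem_filter.mpr ⟨hω, 1, M.one_mem, one_smul _ _⟩
    have hblock : ∀ k k' : Q, (k : P) • ω ∈ Δ₁ → (k' : P) • ω = (k : P) • ω → k' ∈ M := by
      intro k k' hk e
      obtain ⟨-, m, hm, hme⟩ := Finset.mem_filter.mp hk
      have h1 : m⁻¹ * k' ∈ K := by
        show ((m⁻¹ * k' : Q) : P) • ω = ω
        rw [Subgroup.coe_mul, mul_smul, e, ← hme, Subgroup.coe_inv, inv_smul_smul]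
      have := M.mul_mem hm (hKM h1)
      rwa [mul_inv_cancel_left] at this
    have hΔ₁inv : ∀ g ∈ M.map Q.subtype, ∀ x ∈ Δ₁, g • x ∈ Δ₁ := by
      rintro _ ⟨g, hg, rfl⟩ x hx
      obtain ⟨hxΔ, m, hm, rfl⟩ := Finset.mem_filter.mp hx
      refine Finset.mem_filter.mpr ⟨hQ g g.2 _ hxΔ, g * m, M.mul_mem hg hm, ?_⟩
      rw [Subgroup.coe_mul, mul_smul]; rfl
    obtain ⟨q, hq⟩ : ∃ q : Q, q ∉ M := by
      by_contra h
      push Not at h
      have : M = ⊤ := eq_top_iff.mpr fun x _ => h x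
      rw [this, Subgroup.index_top] at hMp
      exact (Fact.out : p.Prime).ne_one hMp.symm
    have hqω : (q : P) • ω ∉ Δ₁ := fun h => hq (hblock q q h rfl)
    have hΔ₁lt : Δ₁.card < n := hΔn ▸ Finset.card_lt_card
      ((Finset.filter_subset _ _).ssubset_of_ne fun e =>
        hqω ((Finset.ext_iff.mp e _).mpr (hQ q q.2 ω hω)))
    obtain ⟨S₁, hS₁, h₁⟩ := ih _ hΔ₁lt Δ₁ rfl (M.map Q.subtype) hΔ₁inv
    -- the orbit of the block is odd
    have hodd : Odd Δ₁.card := by
      have hMP : IsPGroup p M := (hP.to_subgroup Q).to_subgroup M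
      let e : (MulAction.orbit M ω) ≃ {x // x ∈ Δ₁} :=
        { toFun := fun x => ⟨x.1, by
            obtain ⟨m, hm⟩ := x.2
            exact Finset.mem_filter.mpr ⟨hm ▸ hQ _ m.1.2 ω hω, m.1, m.2, hm⟩⟩
          invFun := fun x => ⟨x.1, by
            obtain ⟨-, m, hm, hme⟩ := Finset.mem_filter.mp x.2
            exact ⟨⟨m, hm⟩, hme⟩⟩
          left_inv := fun _ => rfl
          right_inv := fun _ => rfl }
      have : Finite (MulAction.orbit M ω) := Finite.of_equiv _ e.symm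
      obtain ⟨k, hk⟩ := hMP.card_orbit ω
      rw [Nat.card_congr e, Nat.card_eq_finsetCard] at hk
      rw [hk]
      exact ((Fact.out : p.Prime).odd_of_ne_two hp).pow
    have hsize : (Δ₁ \ S₁).card ≠ S₁.card := by
      rw [Finset.card_sdiff_of_subset hS₁]
      obtain ⟨k, hk⟩ := hodd
      have := Finset.card_le_card hS₁
      omega
    -- a chosen representative in each coset
    let r : Q → Q := fun k => (k : Q ⧸ M).out
    have hr : ∀ k, k⁻¹ * r k ∈ M := fun k => by
      obtain ⟨m, hm⟩ := QuotientGroup.mk_out_eq_mul M k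
      show k⁻¹ * (k : Q ⧸ M).out ∈ M
      rw [hm, inv_mul_cancel_left]; exact m.2
    -- the subset: flip the first block
    let mem : Ω → Prop := fun x => ∃ k : Q, (k : P)⁻¹ • x ∈ Δ₁ ∧ r k = k ∧
      ((k ∈ M ∧ (k : P)⁻¹ • x ∉ S₁) ∨ (k ∉ M ∧ (k : P)⁻¹ • x ∈ S₁))
    refine ⟨Δ.filter mem, Finset.filter_subset _ _, fun g hg hS => ?_⟩
    set g' : Q := ⟨g, hg⟩ with hg'
    have hrep : ∀ x ∈ Δ, ∃ k : Q, r k = k ∧ (k : P)⁻¹ • x ∈ Δ₁ := by
      intro x hx
      obtain ⟨k, hk, rfl⟩ := htrans x hx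
      refine ⟨r ⟨k, hk⟩, ?_, Finset.mem_filter.mpr ⟨?_, (r ⟨k, hk⟩)⁻¹ * ⟨k, hk⟩, ?_, ?_⟩⟩
      · show (((⟨k, hk⟩ : Q) : Q ⧸ M).out : Q ⧸ M).out = _
        rw [QuotientGroup.out_eq']
      · exact hQ _ (Q.inv_mem (r ⟨k, hk⟩).2) _ hx
      · have := M.inv_mem (hr ⟨k, hk⟩)
        rwa [_root_.mul_inv_rev, inv_inv] at this
      · rw [Subgroup.coe_mul, mul_smul]; rfl
    have huniq : ∀ (x : Ω) (k k' : Q), r k = k → r k' = k' → (k : P)⁻¹ • x ∈ Δ₁ →
        (k' : P)⁻¹ • x ∈ Δ₁ → k = k' := by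
      intro x k k' hk hk' h h'
      rw [← hk, ← hk']
      show (k : Q ⧸ M).out = (k' : Q ⧸ M).out
      congr 1
      refine QuotientGroup.eq.mpr ?_
      obtain ⟨-, m, hm, hme⟩ := Finset.mem_filter.mp h
      obtain ⟨-, m', hm', hme'⟩ := Finset.mem_filter.mp h'
      have h2 : m⁻¹ * (k⁻¹ * k') * m' ∈ K := by
        show ((m⁻¹ * (k⁻¹ * k') * m' : Q) : P) • ω = ω
        simp only [Subgroup.coe_mul, mul_smul, Subgroup.coe_inv, hme', smul_inv_smul]
        rw [← hme, inv_smul_smul]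
      have h3 := M.mul_mem (M.mul_mem hm (hKM h2)) (M.inv_mem hm')
      simpa [mul_assoc] using h3
    -- membership inside one block
    have hiff : ∀ (k : Q), r k = k → ∀ x : Ω, x ∈ Δ → (k : P)⁻¹ • x ∈ Δ₁ →
        (x ∈ Δ.filter mem ↔ (k : P)⁻¹ • x ∈ (if k ∈ M then Δ₁ \ S₁ else S₁)) := by
      intro k hk x hx hxk
      rw [Finset.mem_filter]
      constructor
      · rintro ⟨-, k', hk'Δ, hk', hcase⟩
        obtain rfl := huniq x k k' hk hk' hxk hk'Δ
        rcases hcase with ⟨h, h'⟩ | ⟨h, h'⟩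
        · rw [if_pos h]; exact Finset.mem_sdiff.mpr ⟨hxk, h'⟩
        · rw [if_neg h]; exact h'
      · intro h
        refine ⟨hx, k, hxk, hk, ?_⟩
        by_cases hkM : k ∈ M
        · rw [if_pos hkM] at h; exact Or.inl ⟨hkM, (Finset.mem_sdiff.mp h).2⟩
        · rw [if_neg hkM] at h; exact Or.inr ⟨hkM, h⟩
    -- `g` respects the subset in both directions
    have hSiff : ∀ x ∈ Δ, (x ∈ Δ.filter mem ↔ g • x ∈ Δ.filter mem) := by
      intro x hx
      refine ⟨hS x, fun h => ?_⟩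
      have himg : (Δ.filter mem).image (g • ·) = Δ.filter mem :=
        Finset.eq_of_subset_of_card_le (Finset.image_subset_iff.mpr hS)
          (Finset.card_image_of_injective _ (MulAction.injective g)).ge
      rw [← himg] at h
      obtain ⟨y, hy, e⟩ := Finset.mem_image.mp h
      exact MulAction.injective g e ▸ hy
    -- transport between blocks
    have hcard : ∀ k : Q, r k = k → (k ∈ M ↔ r (g' * k) ∈ M) := by
      intro k hk
      have hk' : r (r (g' * k)) = r (g' * k) := by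
        show ((((g' * k : Q) : Q ⧸ M).out : Q) : Q ⧸ M).out = _
        rw [QuotientGroup.out_eq']
      set k' := r (g' * k) with hk'def
      let f : Ω → Ω := fun y => (k' : P)⁻¹ • g • (k : P) • y
      have hfinj : Function.Injective f := fun y z e =>
        MulAction.injective (k : P) (MulAction.injective g (MulAction.injective _ e))
      have hfΔ : ∀ y ∈ Δ₁, f y ∈ Δ₁ := by
        intro y hy
        have := hΔ₁inv ((k'⁻¹ * (g' * k) : Q) : P) ⟨k'⁻¹ * (g' * k), ?_, rfl⟩ y hy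
        · simpa [f, mul_smul] using this
        · have h := M.inv_mem (hr (g' * k))
          rwa [_root_.mul_inv_rev, inv_inv] at h
      have hfimg : Δ₁.image f = Δ₁ :=
        Finset.eq_of_subset_of_card_le (Finset.image_subset_iff.mpr hfΔ)
          (Finset.card_image_of_injective _ hfinj).ge
      have hmain : (if k ∈ M then Δ₁ \ S₁ else S₁).image f =
          (if k' ∈ M then Δ₁ \ S₁ else S₁) := by
        have hsub : ∀ (j : Q), (if j ∈ M then Δ₁ \ S₁ else S₁) ⊆ Δ₁ := fun j => by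
          split_ifs
          · exact Finset.sdiff_subset
          · exact hS₁
        ext y
        constructor
        · intro hy
          obtain ⟨z, hz, rfl⟩ := Finset.mem_image.mp hy
          have hzΔ : (k : P) • z ∈ Δ := hQ _ k.2 _ (Finset.mem_filter.mp (hsub k hz)).1
          have h1 : (k : P) • z ∈ Δ.filter mem :=
            (hiff k hk _ hzΔ (by rw [inv_smul_smul]; exact hsub k hz)).mpr
              (by rw [inv_smul_smul]; exact hz)
          exact (hiff k' hk' _ (hQ g hg _ hzΔ) (hfΔ z (hsub k hz))).mp (hS _ h1)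
        · intro hy
          obtain ⟨z, hz, rfl⟩ := Finset.mem_image.mp (hfimg.symm ▸ hsub k' hy : y ∈ Δ₁.image f)
          refine Finset.mem_image_of_mem f ?_
          have hzΔ : (k : P) • z ∈ Δ := hQ _ k.2 _ (Finset.mem_filter.mp hz).1
          have h1 : g • (k : P) • z ∈ Δ.filter mem :=
            (hiff k' hk' _ (hQ g hg _ hzΔ) (hfΔ z hz)).mpr hy
          have h2 := (hiff k hk _ hzΔ (by rw [inv_smul_smul]; exact hz)).mp
            ((hSiff _ hzΔ).mpr h1)
          rwa [inv_smul_smul] at h2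
      have hc := congrArg Finset.card hmain
      rw [Finset.card_image_of_injective _ hfinj] at hc
      constructor
      · intro h
        by_contra h'
        rw [if_pos h, if_neg h'] at hc
        exact hsize hc
      · intro h
        by_contra h'
        rw [if_neg h', if_pos h] at hc
        exact hsize hc.symm
    have hgM : g' ∈ M := by
      obtain ⟨k, hk, hkω⟩ := hrep ω hω
      have hkM : k ∈ M := by
        obtain ⟨-, m, hm, hme⟩ := Finset.mem_filter.mp hkω
        have h1 : k * m ∈ M := hKM (show ((k * m : Q) : P) • ω = ω by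
          rw [Subgroup.coe_mul, mul_smul, hme, smul_inv_smul])
        exact (M.mul_mem_cancel_right hm).mp h1
      have h2 := (hcard k hk).mp hkM
      have h3 := M.mul_mem h2 (M.inv_mem (hr (g' * k)))
      rw [_root_.mul_inv_rev, inv_inv, mul_inv_cancel_left] at h3
      exact (M.mul_mem_cancel_right hkM).mp h3
    intro x hx
    obtain ⟨k, hk, hxk⟩ := hrep x hx
    set j : Q := k⁻¹ * g' * k with hj
    have hjM : j ∈ M := by
      have := hMn.conj_mem g' hgM k⁻¹
      rwa [inv_inv] at this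
    have hjS : ∀ y ∈ S₁, (j : P) • y ∈ S₁ := by
      intro y hy
      have hyΔ : (k : P) • y ∈ Δ := hQ _ k.2 _ (Finset.mem_filter.mp (hS₁ hy)).1
      have e : (k : P)⁻¹ • g • (k : P) • y = (j : P) • y := by
        simp [hj, hg', mul_smul]
      have hjy : (j : P) • y ∈ Δ₁ := hΔ₁inv _ ⟨j, hjM, rfl⟩ _ (hS₁ hy)
      have h1 := hiff k hk _ (hQ g hg _ hyΔ) (e.symm ▸ hjy)
      have h2 := hiff k hk _ hyΔ (by rw [inv_smul_smul]; exact hS₁ hy)
      rw [e] at h1
      rw [inv_smul_smul] at h2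
      have h3 := (hSiff _ hyΔ)
      rw [h1, h2] at h3
      by_cases hkM : k ∈ M
      · rw [if_pos hkM] at h3
        by_contra hne
        exact (Finset.mem_sdiff.mp (h3.mpr (Finset.mem_sdiff.mpr ⟨hjy, hne⟩))).2 hy
      · rw [if_neg hkM] at h3
        exact h3.mp hy
    have h4 := h₁ (j : P) ⟨j, hjM, rfl⟩ hjS _ hxk
    simp [hj, hg', mul_smul] at h4
    exact h4

/-- A subset whose setwise stabiliser acts trivially. -/
theorem exists_subset {p : ℕ} [Fact p.Prime] (hP : IsPGroup p P) (hp : p ≠ 2) (Δ : Finset Ω)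
    (hΔ : ∀ g : P, ∀ x ∈ Δ, g • x ∈ Δ) :
    ∃ S : Finset Ω, S ⊆ Δ ∧ ∀ g : P, (∀ x ∈ S, g • x ∈ S) → ∀ x ∈ Δ, g • x = x := by
  obtain ⟨S, h1, h2⟩ := exists_aux hP hp Δ.card Δ rfl ⊤ fun g _ => hΔ g
  exact ⟨S, h1, fun g => h2 g (Subgroup.mem_top g)⟩

end Cfsg.Agent.Lib.RegularVector.BlockColoring
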