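import Cfsg.Agent.Lib.RegularVector.Fixed
import Cfsg.Agent.Lib.PGroups.Omega

/-!
A faithful module of a `p`-group with cyclic central subgroup containing the commutators is
exponentially large.
-/

set_option autoImplicit false
set_option linter.unusedSectionVars false
set_option linter.style.haveILetI false

namespace Cfsg.Agent.Lib.RegularVector

open scoped commutatorElement

universe u

variable {V : Type u} [CommGroup V] [Finite V] {p : ℕ} [hp : Fact p.Prime]

theorem inv_apply_mem {U : Subgroup V} {x : MulAut V} (hx : ∀ u ∈ U, x u ∈ U) {u : V} (hu : u ∈ U) :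
    x⁻¹ u ∈ U := by
  have hm : U.map x.toMonoidHom = U :=
    Subgroup.eq_of_le_of_card_ge (Subgroup.map_le_iff_le_comap.mpr fun w hw => hx w hw)
      (Subgroup.card_map_of_injective x.injective).ge
  obtain ⟨w, hw, rfl⟩ := (hm.symm ▸ hu : u ∈ U.map x.toMonoidHom)
  show x⁻¹ (x w) ∈ U
  rw [← MulAut.mul_apply, inv_mul_cancel]
  exact hw

/-- The action of a group of automorphisms on an invariant subgroup. -/
def restr (U : Subgroup V) (S : Subgroup (MulAut V)) (hS : ∀ x ∈ S, ∀ u ∈ U, x u ∈ U) :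
    S →* MulAut U where
  toFun x :=
    { toFun := fun u => ⟨(x : MulAut V) u, hS x x.2 u u.2⟩
      invFun := fun u => ⟨((x⁻¹ : S) : MulAut V) u, hS _ (x⁻¹ : S).2 u u.2⟩
      left_inv := fun u => Subtype.ext (by
        show ((x⁻¹ : S) : MulAut V) ((x : MulAut V) u) = u
        rw [← MulAut.mul_apply, ← Subgroup.coe_mul, inv_mul_cancel, Subgroup.coe_one,
          MulAut.one_apply])
      right_inv := fun u => Subtype.ext (by
        show (x : MulAut V) (((x⁻¹ : S) : MulAut V) u) = u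
        rw [← MulAut.mul_apply, ← Subgroup.coe_mul, mul_inv_cancel, Subgroup.coe_one,
          MulAut.one_apply])
      map_mul' := fun u v => Subtype.ext (map_mul _ _ _) }
  map_one' := by ext u; rfl
  map_mul' x y := by ext u; rfl

theorem coe_restr {U : Subgroup V} {S : Subgroup (MulAut V)} (hS : ∀ x ∈ S, ∀ u ∈ U, x u ∈ U)
    (x : S) (u : U) : ((restr U S hS x u : U) : V) = (x : MulAut V) u := rfl

/-- A semiregular image of an odd `p`-group is cyclic, so commutators act trivially. -/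
theorem comm_trivial (hp2 : p ≠ 2) (hcop : (Nat.card V).Coprime p) {D : Subgroup (MulAut V)}
    (hD : IsPGroup p D) {U : Subgroup V} (hU : ∀ x ∈ D, ∀ u ∈ U, x u ∈ U)
    (hreg : ∀ x ∈ D, (∀ u ∈ U, x u = u) ∨ (∀ u ∈ U, x u = u → u = 1)) {c d : MulAut V} (hc : c ∈ D)
    (hd : d ∈ D) {u : V} (hu : u ∈ U) : ⁅c, d⁆ u = u := by
  set f := restr U D hU with hf
  suffices hcyc : IsCyclic f.range by
    obtain ⟨g, hg⟩ := hcyc.exists_generator
    obtain ⟨i, hi⟩ := Subgroup.mem_zpowers_iff.mp (hg ⟨f ⟨c, hc⟩, _, rfl⟩)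
    obtain ⟨j, hj⟩ := Subgroup.mem_zpowers_iff.mp (hg ⟨f ⟨d, hd⟩, _, rfl⟩)
    have h1 : f ⁅(⟨c, hc⟩ : D), ⟨d, hd⟩⁆ = 1 := by
      rw [map_commutatorElement, commutatorElement_eq_one_iff_mul_comm]
      have := congrArg Subtype.val (zpow_mul_comm g i j)
      simpa [hi, hj] using this
    have h2 := congrArg (fun e : MulAut U => ((e ⟨u, hu⟩ : U) : V)) h1
    exact h2
  have hrange : IsPGroup p f.range := hD.of_surjective f.rangeRestrict f.rangeRestrict_surjective
  refine Cfsg.Agent.Lib.SylowInter.OddCyclic.isCyclic_of_unique hp2 hrange fun x y hx hy => ?_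
  have hxne : x ≠ 1 := fun e => hp.out.ne_one (by rw [← hx, e, orderOf_one])
  have : Nontrivial f.range := ⟨⟨x, 1, hxne⟩⟩
  have hne : Subgroup.center f.range ≠ ⊥ := hrange.bot_lt_center.ne'
  obtain ⟨c', hc'mem, hc'⟩ : ∃ c' ∈ Subgroup.center f.range, orderOf c' = p := by
    obtain ⟨n, hn, hcard⟩ := (hrange.to_subgroup (Subgroup.center f.range)).nontrivial_iff_card.mp
      ((Subgroup.nontrivial_iff_ne_bot _).mpr hne)
    obtain ⟨e, he⟩ := exists_prime_orderOf_dvd_card' (G := Subgroup.center f.range) p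
      (hcard ▸ dvd_pow_self p (by omega))
    exact ⟨e, e.2, by rw [Subgroup.orderOf_coe, he]⟩
  have key : ∀ y : f.range, y ^ p = 1 → y ∈ Subgroup.zpowers c' := by
    intro y hy
    by_contra hyn
    have hc1 : (c' : MulAut U) ≠ 1 := fun e => by
      rw [← Subgroup.orderOf_coe, e, orderOf_one] at hc'
      exact hp.out.ne_one hc'.symm
    have hfp : ∀ e : f.range, (e : MulAut U) ≠ 1 → ∀ w : U, (e : MulAut U) w = w → w = 1 := by
      rintro ⟨_, ⟨e, rfl⟩⟩ he w hw
      rcases hreg e e.2 with h | h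
      · exact absurd (MulEquiv.ext fun v : U => Subtype.ext (h v.1 v.2) : f e = 1) he
      · exact Subtype.ext (h w w.2 (congrArg Subtype.val hw))
    have hcopU : (Nat.card U).Coprime p := hcop.coprime_dvd_left (Subgroup.card_subgroup_dvd_card U)
    have hcp : ((c' : f.range) : MulAut U) ^ p = 1 := by
      rw [← hc', ← Subgroup.orderOf_coe]; exact pow_orderOf_eq_one _
    have hyp : (y : MulAut U) ^ p = 1 := by rw [← Subgroup.coe_pow, hy]; rfl
    have hcomm : Commute (y : MulAut U) (c' : MulAut U) :=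
      congrArg Subtype.val (Subgroup.mem_center_iff.mp hc'mem y)
    have h := mem_of_lines hcopU hcomm (U := ⊤) (T := ⊥) (fun _ _ => Subgroup.mem_top _)
      (fun _ _ => Subgroup.mem_top _) (fun w _ => by rw [hyp]; rfl) (fun w _ => by rw [hcp]; rfl)
      (fun w _ hw => Subgroup.mem_bot.mpr (hfp c' hc1 w hw))
      (fun t w _ hw => Subgroup.mem_bot.mpr (hfp (y * c' ^ t) (fun e => hyn (by
        have e' : y * c' ^ t = 1 := Subtype.ext e
        rw [eq_inv_of_mul_eq_one_left e']
        exact Subgroup.inv_mem _ (Subgroup.pow_mem _ (Subgroup.mem_zpowers c') t))) w hw))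
    exact hc1 (MulEquiv.ext fun w => by
      rw [show w = 1 from Subgroup.mem_bot.mp (h (Subgroup.mem_top w)), map_one, map_one])
  have hxc : Subgroup.zpowers x = Subgroup.zpowers c' :=
    Subgroup.eq_of_le_of_card_ge (Subgroup.zpowers_le.mpr (key x (by rw [← hx]; exact pow_orderOf_eq_one x)))
      (by rw [Nat.card_zpowers, Nat.card_zpowers, hx, hc'])
  rw [hxc]
  exact key y hy

/-- The hypotheses on the cyclic kernel. -/
structure Core (p : ℕ) (B C : Subgroup (MulAut V)) (z : MulAut V) : Prop where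
  le : B ≤ C
  pgroup : IsPGroup p C
  central : ∀ b ∈ B, ∀ c ∈ C, Commute b c
  fpf : ∀ b ∈ B, b ≠ 1 → ∀ u : V, b u = u → u = 1
  zmem : z ∈ B
  zpow : z ^ p = 1
  comm : ∀ c ∈ C, ∀ d ∈ C, ⁅c, d⁆ ∈ Subgroup.zpowers z

variable {B C : Subgroup (MulAut V)} {z : MulAut V}

theorem Core.comm_mul (h : Core p B C z) {c d e : MulAut V} (hc : c ∈ C) (hd : d ∈ C) (he : e ∈ C) :
    ⁅c, d * e⁆ = ⁅c, d⁆ * ⁅c, e⁆ := by
  have hce : Commute ⁅c, e⁆ d :=
    h.central _ (Subgroup.zpowers_le.mpr h.zmem (h.comm c hc e he)) d hd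
  calc ⁅c, d * e⁆ = ⁅c, d⁆ * (d * ⁅c, e⁆ * d⁻¹) := by simp only [commutatorElement_def]; group
    _ = _ := by rw [← hce.eq, mul_inv_cancel_right]

theorem Core.succ_card_le (h : Core p B C z) {U : Subgroup V} (hU : U ≠ ⊥)
    (hB : ∀ b ∈ B, ∀ u ∈ U, b u ∈ U) : Nat.card B + 1 ≤ Nat.card U := by
  classical
  obtain ⟨u₀, hu₀, hu1⟩ := (Subgroup.bot_or_exists_ne_one U).resolve_left hU
  let f : Option B → U := fun o =>
    match o with
    | none => 1
    | some b => ⟨(b : MulAut V) u₀, hB b b.2 u₀ hu₀⟩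
  have hf : Function.Injective f := by
    intro o o' e
    rcases o with _ | b <;> rcases o' with _ | b'
    · rfl
    · exact absurd ((map_eq_one_iff _ (b' : MulAut V).injective).mp (congrArg Subtype.val e).symm) hu1
    · exact absurd ((map_eq_one_iff _ (b : MulAut V).injective).mp (congrArg Subtype.val e)) hu1
    · congr 1
      by_contra hne
      have h1 : ((b : MulAut V)⁻¹ * b') u₀ = u₀ := by
        have e1 : (b : MulAut V) u₀ = (b' : MulAut V) u₀ := congrArg Subtype.val e
        rw [MulAut.mul_apply, ← e1, ← MulAut.mul_apply, inv_mul_cancel, MulAut.one_apply]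
      exact hu1 (h.fpf _ (B.mul_mem (B.inv_mem b.2) b'.2)
        (fun e' => hne (Subtype.ext (inv_mul_eq_one.mp e'))) u₀ h1)
  have h3 := Nat.card_le_card_of_injective f hf
  have := Fintype.ofFinite B
  rw [Nat.card_eq_fintype_card, Fintype.card_option, ← Nat.card_eq_fintype_card] at h3
  exact h3

theorem Core.grow (h : Core p B C z) (hp2 : p ≠ 2) (hcop : (Nat.card V).Coprime p) :
    ∀ (n : ℕ) (D : Subgroup (MulAut V)), Nat.card D ≤ n → B ≤ D → D ≤ C → ∀ U : Subgroup V, U ≠ ⊥ →
      (∀ x ∈ D, ∀ u ∈ U, x u ∈ U) →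
      ∃ k : ℕ, (D ⊓ Subgroup.centralizer (D : Set (MulAut V))).relIndex D ≤ p ^ (2 * k) ∧
        (Nat.card B + 1) ^ p ^ k ≤ Nat.card U := by
  intro n
  induction n with
  | zero => intro D hD; exact absurd hD (not_le.mpr Nat.card_pos)
  | succ n ih =>
    intro D hDn hBD hDC U₀ hU₀ hU₀D
    -- a minimal invariant subgroup
    obtain ⟨U, hUmin⟩ := (Set.toFinite {U : Subgroup V | U ≤ U₀ ∧ U ≠ ⊥ ∧
      ∀ x ∈ D, ∀ u ∈ U, x u ∈ U}).exists_minimal ⟨U₀, le_rfl, hU₀, hU₀D⟩
    obtain ⟨hUle, hUne, hUD⟩ := hUmin.1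
    have hmin : ∀ W : Subgroup V, W ≤ U → W ≠ ⊥ → (∀ x ∈ D, ∀ u ∈ W, x u ∈ W) → W = U :=
      fun W hW h1 h2 => le_antisymm hW (hUmin.2 ⟨hW.trans hUle, h1, h2⟩ hW)
    have hBU := h.succ_card_le hUne fun b hb => hUD b (hBD hb)
    set ZD := D ⊓ Subgroup.centralizer (D : Set (MulAut V)) with hZD
    have hzD : z ∈ D := hBD h.zmem
    have hbound : Nat.card U ≤ Nat.card U₀ := Subgroup.card_le_of_le hUle
    by_cases hab : ∀ x ∈ D, ∀ y ∈ D, Commute x y
    · refine ⟨0, ?_, by simpa using hBU.trans hbound⟩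
      have hle : D ≤ ZD := fun x hx => ⟨hx, Subgroup.mem_centralizer_iff.mpr fun y hy => hab y hy x hx⟩
      rw [Subgroup.relIndex_eq_one.mpr hle]
      simp
    obtain ⟨x, hxD, hxZ, u₁, hu₁, hxu, hu₁1⟩ :
        ∃ x ∈ D, x ∉ ZD ∧ ∃ u ∈ U, x u = u ∧ u ≠ 1 := by
      by_contra hno
      push Not at hno hab
      obtain ⟨c, hc, d, hd, hcd⟩ := hab
      have hreg : ∀ x ∈ D, (∀ u ∈ U, x u = u) ∨ (∀ u ∈ U, x u = u → u = 1) := by
        intro x hx
        by_cases hxZ : x ∈ ZD
        · set W := U ⊓ fixPts ({x} : Set (MulAut V)) with hW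
          have hWinv : ∀ y ∈ D, ∀ u ∈ W, y u ∈ W := by
            intro y hy u hu
            refine ⟨hUD y hy u hu.1, mem_fixPts_one.mpr ?_⟩
            have hc' : x * y = y * x := (Subgroup.mem_centralizer_iff.mp hxZ.2 y hy).symm
            rw [← MulAut.mul_apply, hc', MulAut.mul_apply, mem_fixPts_one.mp hu.2]
          by_cases hWb : W = ⊥
          · right
            intro u hu hxu
            have : u ∈ W := ⟨hu, mem_fixPts_one.mpr hxu⟩
            rwa [hWb, Subgroup.mem_bot] at this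
          · left
            intro u hu
            have : u ∈ W := (hmin W inf_le_left hWb hWinv).symm ▸ hu
            exact mem_fixPts_one.mp this.2
        · exact Or.inr fun u hu e => hno x hx hxZ u hu e
      have hne1 : ⁅c, d⁆ ≠ 1 := fun e => hcd (commutatorElement_eq_one_iff_commute.mp e)
      obtain ⟨u, hu, hu1⟩ := (Subgroup.bot_or_exists_ne_one U).resolve_left hUne
      exact hu1 (h.fpf _ (Subgroup.zpowers_le.mpr h.zmem (h.comm c (hDC hc) d (hDC hd))) hne1 u
        (comm_trivial hp2 hcop (h.pgroup.to_le hDC) hUD hreg hc hd hu))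
    -- the centraliser of `x` in `D`
    obtain ⟨y, hyD, hxy⟩ : ∃ y ∈ D, ¬ Commute x y := by
      by_contra hall
      push Not at hall
      exact hxZ ⟨hxD, Subgroup.mem_centralizer_iff.mpr fun y hy => (hall y hy).symm.eq⟩
    set D₁ := D ⊓ Subgroup.centralizer ({x} : Set (MulAut V)) with hD₁
    have hBD₁ : B ≤ D₁ := fun b hb => ⟨hBD hb,
      Subgroup.mem_centralizer_singleton_iff.mpr (h.central b hb x (hDC hxD)).eq⟩
    have hlt : Nat.card D₁ < Nat.card D := by
      refine lt_of_le_of_ne (Subgroup.card_le_of_le inf_le_left) fun e => hxy ?_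
      have : y ∈ D₁ := by
        rw [show D₁ = D from Subgroup.eq_of_le_of_card_ge inf_le_left e.ge]
        exact hyD
      exact (Subgroup.mem_centralizer_singleton_iff.mp this.2).symm
    set U₁ := U ⊓ fixPts ({x} : Set (MulAut V)) with hU₁
    have hU₁ne : U₁ ≠ ⊥ := fun e => hu₁1 (by
      have : u₁ ∈ U₁ := ⟨hu₁, mem_fixPts_one.mpr hxu⟩
      rwa [e, Subgroup.mem_bot] at this)
    have hU₁inv : ∀ d ∈ D₁, ∀ u ∈ U₁, d u ∈ U₁ := by
      intro d hd u hu
      refine ⟨hUD d hd.1 u hu.1, mem_fixPts_one.mpr ?_⟩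
      have hc : x * d = d * x := (Subgroup.mem_centralizer_singleton_iff.mp hd.2).symm
      rw [← MulAut.mul_apply, hc, MulAut.mul_apply, mem_fixPts_one.mp hu.2]
    obtain ⟨k, hk1, hk2⟩ := ih D₁ (by omega) hBD₁ (inf_le_left.trans hDC) U₁ hU₁ne hU₁inv
    refine ⟨k + 1, ?_, ?_⟩
    swap
    · obtain ⟨N, hN⟩ := h.pgroup ⟨x, hDC hxD⟩
      have hwmem : ⁅x⁻¹, y⁆ ∈ Subgroup.zpowers z := h.comm _ (C.inv_mem (hDC hxD)) _ (hDC hyD)
      have hwne : ⁅x⁻¹, y⁆ ≠ 1 := fun e =>
        hxy (by simpa using (commutatorElement_eq_one_iff_commute.mp e).inv_left)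
      have hwp : ⁅x⁻¹, y⁆ ^ p = 1 := by
        obtain ⟨i, hi⟩ := Subgroup.mem_zpowers_iff.mp hwmem
        rw [← hi, ← zpow_natCast, ← zpow_mul, mul_comm, zpow_mul, zpow_natCast, h.zpow, one_zpow]
      have hwB : ⁅x⁻¹, y⁆ ∈ B := Subgroup.zpowers_le.mpr h.zmem hwmem
      have hfix := pow_fix_le hcop (x := x) (y := y) (w := ⁅x⁻¹, y⁆) (N := N) (U := U)
        (congrArg Subtype.val hN) (by simp only [commutatorElement_def]; group)
        (h.central _ hwB x (hDC hxD)).symm (h.central _ hwB y (hDC hyD)).symm hwp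
        (fun u _ => h.fpf _ hwB hwne u) (fun u hu => hUD _ (hBD hwB) u hu) (hUD y hyD)
      refine le_trans ?_ (hfix.trans hbound)
      rw [pow_succ, pow_mul]
      exact Nat.pow_le_pow_left hk2 p
    · set Z₁ := D₁ ⊓ Subgroup.centralizer (D₁ : Set (MulAut V)) with hZ₁
      have hzcard : Nat.card (Subgroup.zpowers z) ≤ p := by
        rw [Nat.card_zpowers]
        exact Nat.le_of_dvd hp.out.pos (orderOf_dvd_of_pow_eq_one h.zpow)
      have hZle : ZD ≤ Z₁ := by
        intro e he
        refine ⟨⟨he.1, Subgroup.mem_centralizer_singleton_iff.mpr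
          (Subgroup.mem_centralizer_iff.mp he.2 x hxD).symm⟩, ?_⟩
        exact Subgroup.mem_centralizer_iff.mpr fun d hd => Subgroup.mem_centralizer_iff.mp he.2 d hd.1
      -- the commutator with `x`
      let ψ : D →* Subgroup.zpowers z :=
        { toFun := fun d => ⟨⁅x, (d : MulAut V)⁆, h.comm x (hDC hxD) d (hDC d.2)⟩
          map_one' := Subtype.ext (by simp [commutatorElement_def])
          map_mul' := fun d e => Subtype.ext (h.comm_mul (hDC hxD) (hDC d.2) (hDC e.2)) }
      have hψ : ψ.ker = D₁.subgroupOf D := by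
        ext d
        rw [MonoidHom.mem_ker, Subgroup.mem_subgroupOf]
        constructor
        · intro hd
          refine ⟨d.2, Subgroup.mem_centralizer_singleton_iff.mpr ?_⟩
          exact (commutatorElement_eq_one_iff_mul_comm.mp (congrArg Subtype.val hd)).symm
        · intro hd
          refine Subtype.ext (commutatorElement_eq_one_iff_mul_comm.mpr ?_)
          exact (Subgroup.mem_centralizer_singleton_iff.mp hd.2).symm
      have hd1 : D₁.relIndex D ≤ p := by
        rw [Subgroup.relIndex, ← hψ, Subgroup.index_ker]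
        exact (Subgroup.card_le_card_group _).trans hzcard
      -- the commutator with `y` on the centre of `D₁`
      let χ : Z₁ →* Subgroup.zpowers z :=
        { toFun := fun e => ⟨⁅y, (e : MulAut V)⁆, h.comm y (hDC hyD) e (hDC e.2.1.1)⟩
          map_one' := Subtype.ext (by simp [commutatorElement_def])
          map_mul' := fun d e => Subtype.ext (h.comm_mul (hDC hyD) (hDC d.2.1.1) (hDC e.2.1.1)) }
      have hw0 : ⁅x, y⁆ ≠ 1 := fun e => hxy (commutatorElement_eq_one_iff_commute.mp e)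
      have hχ : χ.ker ≤ ZD.subgroupOf Z₁ := by
        intro e he
        rw [Subgroup.mem_subgroupOf]
        refine ⟨e.2.1.1, Subgroup.mem_centralizer_iff.mpr fun d hd => ?_⟩
        have hey : Commute y (e : MulAut V) :=
          commutatorElement_eq_one_iff_commute.mp (congrArg Subtype.val he)
        -- write `d` as an element of `D₁` times a power of `y`
        have hgen : Subgroup.zpowers ⁅x, y⁆ = Subgroup.zpowers z := by
          refine Subgroup.eq_of_le_of_card_ge (Subgroup.zpowers_le.mpr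
            (h.comm x (hDC hxD) y (hDC hyD))) (hzcard.trans ?_)
          rw [Nat.card_zpowers]
          have hwp : ⁅x, y⁆ ^ p = 1 := by
            obtain ⟨i, hi⟩ := Subgroup.mem_zpowers_iff.mp (h.comm x (hDC hxD) y (hDC hyD))
            rw [← hi, ← zpow_natCast, ← zpow_mul, mul_comm, zpow_mul, zpow_natCast, h.zpow, one_zpow]
          exact ((Nat.dvd_prime hp.out).mp (orderOf_dvd_of_pow_eq_one hwp)).resolve_left
            (fun e => hw0 (orderOf_eq_one_iff.mp e)) |>.ge
        obtain ⟨i, hi⟩ := Subgroup.mem_zpowers_iff.mp (hgen.symm ▸ h.comm x (hDC hxD) d (hDC hd) :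
          ⁅x, d⁆ ∈ Subgroup.zpowers ⁅x, y⁆)
        have hyi : ψ (⟨y, hyD⟩ ^ i) = ψ ⟨d, hd⟩ := by
          rw [map_zpow]; exact Subtype.ext (by simpa [ψ] using hi)
        have hker : ((⟨y, hyD⟩ : D) ^ i)⁻¹ * ⟨d, hd⟩ ∈ D₁.subgroupOf D := by
          rw [← hψ, MonoidHom.mem_ker, map_mul, map_inv, hyi, inv_mul_cancel]
        have h1 : Commute (y ^ i) (e : MulAut V) := hey.zpow_left i
        have h2 : Commute ((y ^ i)⁻¹ * d) (e : MulAut V) := by
          have := Subgroup.mem_centralizer_iff.mp e.2.2 _ (Subgroup.mem_subgroupOf.mp hker)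
          simpa [Commute, SemiconjBy] using this
        have := h1.mul_left h2
        rw [mul_inv_cancel_left] at this
        exact this.eq
      have hd2 : ZD.relIndex Z₁ ≤ p := by
        rw [Subgroup.relIndex]
        refine (Nat.le_of_dvd (Nat.pos_of_ne_zero Subgroup.index_ne_zero_of_finite)
          (Subgroup.index_dvd_of_le hχ)).trans ?_
        rw [Subgroup.index_ker]
        exact (Subgroup.card_le_card_group _).trans hzcard
      rw [← Subgroup.relIndex_mul_relIndex ZD Z₁ D hZle (inf_le_left.trans inf_le_left),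
        ← Subgroup.relIndex_mul_relIndex Z₁ D₁ D inf_le_left inf_le_left]
      calc ZD.relIndex Z₁ * (Z₁.relIndex D₁ * D₁.relIndex D) ≤ p * (p ^ (2 * k) * p) :=
            Nat.mul_le_mul hd2 (Nat.mul_le_mul hk1 hd1)
        _ = p ^ (2 * (k + 1)) := by rw [mul_add, pow_add]; ring

end Cfsg.Agent.Lib.RegularVector
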