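import Cfsg.Agent.Lib.Coprime.Generation
import Cfsg.Agent.Lib.SylowInter.OddCyclic

/-!
Fixed points of automorphisms of a finite abelian group under a coprime action.
-/

set_option autoImplicit false
set_option linter.unusedSectionVars false
set_option linter.style.haveILetI false

namespace Cfsg.Agent.Lib.RegularVector

universe u

variable {V : Type u} [CommGroup V]

/-- The common fixed points of a set of automorphisms. -/
def fixPts (S : Set (MulAut V)) : Subgroup V where
  carrier := {v | ∀ x ∈ S, x v = v}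
  one_mem' := fun x _ => map_one x
  mul_mem' := fun {u v} hu hv x hx => by rw [map_mul, hu x hx, hv x hx]
  inv_mem' := fun {u} hu x hx => by rw [map_inv, hu x hx]

theorem mem_fixPts {S : Set (MulAut V)} {v : V} : v ∈ fixPts S ↔ ∀ x ∈ S, x v = v := Iff.rfl

theorem mem_fixPts_one {x : MulAut V} {v : V} : v ∈ fixPts ({x} : Set (MulAut V)) ↔ x v = v :=
  ⟨fun h => h x rfl, fun h y hy => by rw [Set.mem_singleton_iff.mp hy]; exact h⟩

theorem eq_of_pow_eq [Finite V] {p n : ℕ} (hcop : (Nat.card V).Coprime p) {u v : V}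
    (h : u ^ p ^ n = v ^ p ^ n) : u = v :=
  (powCoprime (hcop.pow_right n)).injective h

/-- A `p`-element fixing a subgroup and the quotient by it pointwise is trivial. -/
theorem eq_one_of_series [Finite V] {p : ℕ} (hcop : (Nat.card V).Coprime p) {x : MulAut V} {n : ℕ}
    (hx : x ^ p ^ n = 1) {U : Subgroup V} (h1 : ∀ u ∈ U, x u = u) (h2 : ∀ v, v⁻¹ * x v ∈ U) :
    x = 1 := by
  ext v
  set u := v⁻¹ * x v with hu
  have hxv : x v = v * u := by rw [hu, mul_inv_cancel_left]
  have key : ∀ m : ℕ, (x ^ m) v = v * u ^ m := by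
    intro m
    induction m with
    | zero => simp
    | succ m ih =>
      rw [pow_succ', MulAut.mul_apply, ih, map_mul, map_pow, h1 u (h2 v), hxv, pow_succ', mul_assoc]
  have h3 := key (p ^ n)
  rw [hx, MulAut.one_apply, eq_comm, mul_eq_left] at h3
  have h4 : u = 1 := eq_of_pow_eq hcop (n := n) (by rw [h3, one_pow])
  rw [MulAut.one_apply, hxv, h4, mul_one]

section Norm

variable [Finite V]

open Classical in
/-- The product of the translates of `v` under a subgroup. -/
noncomputable def normMap (K : Subgroup (MulAut V)) : V →* V where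
  toFun v :=
    letI := Fintype.ofFinite K
    ∏ k : K, (k : MulAut V) v
  map_one' := by simp
  map_mul' u v := by simp [Finset.prod_mul_distrib]

theorem normMap_mem (K : Subgroup (MulAut V)) (v : V) : normMap K v ∈ fixPts (K : Set (MulAut V)) := by
  classical
  letI := Fintype.ofFinite K
  intro x hx
  show x (∏ k : K, (k : MulAut V) v) = ∏ k : K, (k : MulAut V) v
  rw [map_prod]
  exact Fintype.prod_equiv (Equiv.mulLeft (⟨x, hx⟩ : K)) _ _ fun k => rfl

theorem normMap_of_mem (K : Subgroup (MulAut V)) {v : V} (hv : v ∈ fixPts (K : Set (MulAut V))) :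
    normMap K v = v ^ Nat.card K := by
  classical
  letI := Fintype.ofFinite K
  show (∏ k : K, (k : MulAut V) v) = _
  rw [Finset.prod_congr rfl (fun (k : K) _ => hv k k.2), Finset.prod_const, Finset.card_univ,
    Nat.card_eq_fintype_card]

theorem map_normMap (K : Subgroup (MulAut V)) (x : MulAut V) (v : V) :
    x (normMap K v) = normMap (K.map (MulAut.conj x).toMonoidHom) (x v) := by
  classical
  letI := Fintype.ofFinite K
  letI := Fintype.ofFinite (K.map (MulAut.conj x).toMonoidHom)
  show x (∏ k : K, (k : MulAut V) v) =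
    ∏ k : K.map (MulAut.conj x).toMonoidHom, (k : MulAut V) (x v)
  rw [map_prod]
  refine Fintype.prod_equiv (K.equivMapOfInjective _ (MulAut.conj x).injective).toEquiv _ _
    fun k => ?_
  show x ((k : MulAut V) v) = (x * (k : MulAut V) * x⁻¹) (x v)
  rw [← MulAut.mul_apply, ← MulAut.mul_apply, inv_mul_cancel_right]

end Norm

/-- Generation by the fixed points of the `p + 1` lines in a square. -/
theorem mem_of_lines [Finite V] {p : ℕ} [Fact p.Prime] (hcop : (Nat.card V).Coprime p)
    {b c : MulAut V} (hbc : Commute b c) {U T : Subgroup V} (hbU : ∀ u ∈ U, b u ∈ U)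
    (hcU : ∀ u ∈ U, c u ∈ U) (hbp : ∀ u ∈ U, (b ^ p) u = u) (hcp : ∀ u ∈ U, (c ^ p) u = u)
    (h0 : ∀ u ∈ U, c u = u → u ∈ T) (h1 : ∀ t : ℕ, ∀ u ∈ U, (b * c ^ t) u = u → u ∈ T) :
    U ≤ T := by
  intro v hv
  have hpow : ∀ x : MulAut V, (∀ u ∈ U, x u ∈ U) → ∀ n : ℕ, ∀ u ∈ U, (x ^ n) u ∈ U := by
    intro x hx n
    induction n with
    | zero => intro u hu; simpa using hu
    | succ n ih => intro u hu; rw [pow_succ, MulAut.mul_apply]; exact ih _ (hx u hu)
  have hmod : ∀ x : MulAut V, (∀ u ∈ U, x u ∈ U) → (∀ u ∈ U, (x ^ p) u = u) →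
      ∀ n m : ℕ, n ≡ m [MOD p] → ∀ u ∈ U, (x ^ n) u = (x ^ m) u := by
    intro x hx hxp n m hnm u hu
    have red : ∀ k : ℕ, ∀ u ∈ U, (x ^ k) u = (x ^ (k % p)) u := by
      intro k u hu
      have hq : ∀ j, (x ^ (p * j)) u = u := by
        intro j
        induction j with
        | zero => simp
        | succ j ih => rw [Nat.mul_succ, pow_add, MulAut.mul_apply, hxp u hu, ih]
      conv_lhs => rw [← Nat.mod_add_div k p, pow_add, MulAut.mul_apply, hq]
    rw [red n u hu, red m u hu, hnm]
  let w : ZMod p → ZMod p → V := fun i j => (b ^ i.val) ((c ^ j.val) v)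
  have hwU : ∀ i j, w i j ∈ U := fun i j => hpow b hbU _ _ (hpow c hcU _ _ hv)
  have hval : ∀ (i : ZMod p) (n : ℕ), (n : ZMod p) = i → n ≡ i.val [MOD p] := by
    intro i n h
    rw [← ZMod.natCast_eq_natCast_iff]
    simp [h]
  have hcw : ∀ i j, c (w i j) = w i (j + 1) := by
    intro i j
    show c ((b ^ i.val) ((c ^ j.val) v)) = (b ^ i.val) ((c ^ (j + 1).val) v)
    rw [← MulAut.mul_apply, ← (hbc.pow_left i.val).eq, MulAut.mul_apply]
    congr 1
    show (c * c ^ j.val) v = _
    rw [← pow_succ']
    exact hmod c hcU hcp _ _ (hval (j + 1) (j.val + 1) (by simp)) v hv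
  have hbw : ∀ (t : ℕ) (i j : ZMod p), (b * c ^ t) (w i j) = w (i + 1) (j + t) := by
    intro t i j
    show (b * c ^ t) ((b ^ i.val) ((c ^ j.val) v)) = (b ^ (i + 1).val) ((c ^ (j + (t : ZMod p)).val) v)
    rw [← MulAut.mul_apply, ← MulAut.mul_apply, mul_assoc b, ← (hbc.pow_pow i.val t).eq, ← mul_assoc,
      ← pow_succ', mul_assoc, ← pow_add, add_comm t, MulAut.mul_apply,
      hmod c hcU hcp _ _ (hval (j + t) (j.val + t) (by simp)) v hv]
    exact hmod b hbU hbp _ _ (hval (i + 1) (i.val + 1) (by simp)) _ (hpow c hcU _ _ hv)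
  have hmem : ∀ f : ZMod p → V, (∀ i, f i ∈ U) → (∏ i, f i) ∈ U :=
    fun f hf => U.prod_mem fun i _ => hf i
  have hall : (∏ i : ZMod p, ∏ j : ZMod p, w i j) ∈ T := by
    refine h0 _ (hmem _ fun i => hmem _ fun j => hwU i j) ?_
    rw [map_prod]
    refine Finset.prod_congr rfl fun i _ => ?_
    rw [map_prod]
    exact Fintype.prod_equiv (Equiv.addRight (1 : ZMod p)) _ _ fun j => hcw i j
  have hcol : (∏ j : ZMod p, w 0 j) ∈ T := by
    refine h0 _ (hmem _ fun j => hwU 0 j) ?_
    rw [map_prod]
    exact Fintype.prod_equiv (Equiv.addRight (1 : ZMod p)) _ _ fun j => hcw 0 j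
  have hline : ∀ t : ZMod p, (∏ i : ZMod p, w i (t * i)) ∈ T := by
    intro t
    refine h1 t.val _ (hmem _ fun i => hwU _ _) ?_
    rw [map_prod]
    refine Fintype.prod_equiv (Equiv.addRight (1 : ZMod p)) _ _ fun i => ?_
    rw [hbw, ZMod.natCast_zmod_val]
    show w (i + 1) (t * i + t) = w (i + 1) (t * (i + 1))
    rw [mul_add, mul_one]
  have h := Cfsg.Agent.Lib.Coprime.prod_lines p w
  have hp : w 0 0 ^ p ∈ T := by
    have : (∏ t : ZMod p, ∏ i : ZMod p, w i (t * i)) * (∏ j : ZMod p, w 0 j) ∈ T :=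
      T.mul_mem (T.prod_mem fun t _ => hline t) hcol
    rw [h] at this
    exact (T.mul_mem_cancel_right hall).mp this
  have hw0 : w 0 0 = v := by simp [w]
  rw [hw0] at hp
  have hg := Nat.gcd_eq_gcd_ab (Nat.card V) p
  rw [hcop.gcd_eq_one] at hg
  have e : v = (v ^ p) ^ (Nat.card V).gcdB p := by
    conv_lhs => rw [← zpow_one v, ← Nat.cast_one (R := ℤ), hg, zpow_add, zpow_mul, zpow_natCast,
      pow_card_eq_one', one_zpow, one_mul, zpow_mul, zpow_natCast]
  rw [e]
  exact T.zpow_mem hp _

/-- `p` independent translates of a fixed point subgroup. -/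
theorem pow_fix_le [Finite V] {p : ℕ} [hp : Fact p.Prime] (hcop : (Nat.card V).Coprime p)
    {x y w : MulAut V} {N : ℕ} (hx : x ^ p ^ N = 1) (hyx : y * x * y⁻¹ = x * w) (hxw : Commute x w)
    (hyw : Commute y w) (hw : w ^ p = 1) {U : Subgroup V}
    (hwf : ∀ u ∈ U, w u = u → u = 1) (hwU : ∀ u ∈ U, w u ∈ U) (hyU : ∀ u ∈ U, y u ∈ U) :
    (Nat.card (U ⊓ fixPts {x} : Subgroup V)) ^ p ≤ Nat.card U := by
  classical
  set F := U ⊓ fixPts {x} with hF
  let f : (Fin p → F) → U := fun u =>
    ⟨∏ i : Fin p, (y ^ (i : ℕ)) (u i : V), U.prod_mem fun i _ => by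
      have : ∀ n : ℕ, ∀ v ∈ U, (y ^ n) v ∈ U := by
        intro n
        induction n with
        | zero => intro v hv; simpa using hv
        | succ n ih => intro v hv; rw [pow_succ, MulAut.mul_apply]; exact ih _ (hyU v hv)
      exact this _ _ (u i).2.1⟩
  suffices hf : Function.Injective f by
    have h := Nat.card_le_card_of_injective f hf
    rwa [Nat.card_fun, Nat.card_fin] at h
  intro u u' h
  funext i
  -- project on the `i`-th translate
  set z := x * w ^ (i : ℕ) with hz
  have hzN : z ^ p ^ (N + 1) = 1 := by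
    rw [hz, (hxw.pow_right i).mul_pow, pow_succ p N, pow_mul, hx, one_pow, one_mul, ← pow_mul,
      mul_comm (p ^ N) p, ← mul_assoc, mul_comm (i : ℕ) p, mul_assoc, pow_mul, hw, one_pow]
  let e : V →* V :=
    { toFun := fun v => ∏ j ∈ Finset.range (p ^ (N + 1)), (z ^ j) v
      map_one' := by simp
      map_mul' := fun a b => by simp [Finset.prod_mul_distrib] }
  have hzw : Commute z w := hxw.mul_left ((Commute.refl w).pow_left i)
  have hyk : ∀ (k : ℕ) (v : V), x v = v → (x * w ^ k) ((y ^ k) v) = (y ^ k) v := by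
    intro k v hv
    have hc : ∀ k : ℕ, (x * w ^ k) * y ^ k = y ^ k * x := by
      intro k
      induction k with
      | zero => simp
      | succ k ih =>
        have h1 : y * x = x * w * y := mul_inv_eq_iff_eq_mul.mp hyx
        calc x * w ^ (k + 1) * y ^ (k + 1) = x * w * (w ^ k * y) * y ^ k := by
              rw [pow_succ', pow_succ']; simp only [mul_assoc]
          _ = x * w * (y * w ^ k) * y ^ k := by rw [(hyw.pow_right k).eq]
          _ = (x * w * y) * (w ^ k * y ^ k) := by simp only [mul_assoc]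
          _ = y * (x * w ^ k * y ^ k) := by rw [← h1]; simp only [mul_assoc]
          _ = y ^ (k + 1) * x := by rw [ih, pow_succ', mul_assoc]
    rw [← MulAut.mul_apply, hc, MulAut.mul_apply, hv]
  -- the other translates are killed
  have hkill : ∀ k : Fin p, k ≠ i → ∀ v ∈ F, e ((y ^ (k : ℕ)) v) = 1 := by
    intro k hk v hv
    have hfix := hyk k v (mem_fixPts_one.mp hv.2)
    set m := (k : ℕ) with hm
    set v' := (y ^ m) v with hv'
    have hv'U : v' ∈ U := by
      have : ∀ n : ℕ, (y ^ n) v ∈ U := by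
        intro n
        induction n with
        | zero => simpa using hv.1
        | succ n ih => rw [pow_succ', MulAut.mul_apply]; exact hyU _ ih
      exact this m
    -- `z` acts on `v'` as a nontrivial power of `w`
    set d := (i : ℕ) + (p - m) with hd
    have hwm : w ^ m * w ^ d = w ^ (i : ℕ) := by
      rw [← pow_add, hd, show m + ((i : ℕ) + (p - m)) = (i : ℕ) + p by have := k.2; omega, pow_add,
        hw, mul_one]
    have hzv : ∀ j : ℕ, (z ^ j) v' = ((w ^ d) ^ j) v' := by
      intro j
      have e1 : z = (x * w ^ m) * w ^ d := by rw [hz, mul_assoc, hwm]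
      induction j with
      | zero => simp
      | succ j ih =>
        rw [pow_succ, pow_succ (w ^ d)]
        show (z ^ j) (z v') = ((w ^ d) ^ j) ((w ^ d) v')
        have hcm : Commute (x * w ^ m) (w ^ d) :=
          ((hxw.pow_right d)).mul_left ((Commute.refl w).pow_pow m d)
        have e2 : z v' = (w ^ d) v' := by
          rw [e1, hcm.eq, MulAut.mul_apply, hfix]
        rw [e2]
        have hzc : Commute (z ^ j) (w ^ d) := hzw.pow_pow j d
        show (z ^ j * w ^ d) v' = _
        rw [hzc.eq]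
        show (w ^ d) ((z ^ j) v') = _
        rw [ih]
        show (w ^ d * (w ^ d) ^ j) v' = ((w ^ d) ^ j * w ^ d) v'
        rw [((Commute.refl (w ^ d)).pow_right j).eq]
    show (∏ j ∈ Finset.range (p ^ (N + 1)), (z ^ j) v') = 1
    rw [Finset.prod_congr rfl fun j _ => hzv j]
    set P := ∏ j ∈ Finset.range (p ^ (N + 1)), ((w ^ d) ^ j) v' with hP
    have hPU : P ∈ U ∧ (w ^ d) P = P := by
      have hwp : (w ^ d) ^ p ^ (N + 1) = 1 := by
        rw [← pow_mul, mul_comm, pow_succ' p N, mul_assoc, pow_mul, hw, one_pow]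
      refine ⟨?_, ?_⟩
      · refine U.prod_mem fun j _ => ?_
        rw [← hzv j]
        have : ∀ n : ℕ, (z ^ n) v' ∈ U := by
          intro n
          rw [hzv n, ← pow_mul]
          generalize d * n = l
          induction l with
          | zero => simpa using hv'U
          | succ l ih => rw [pow_succ', MulAut.mul_apply]; exact hwU _ ih
        exact this j
      · rw [hP, map_prod]
        have h1 := Finset.prod_range_succ (fun j => ((w ^ d) ^ j) v') (p ^ (N + 1))
        have h2 := Finset.prod_range_succ' (fun j => ((w ^ d) ^ j) v') (p ^ (N + 1))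
        simp only [hwp, pow_zero, MulAut.one_apply] at h1 h2
        rw [h1] at h2
        refine (Finset.prod_congr rfl fun j _ => ?_).trans (mul_right_cancel h2).symm
        rw [← MulAut.mul_apply, ← pow_succ']
    -- a nontrivial power of `w` has no fixed point
    have hdp : ¬ p ∣ d := by
      intro hdv
      apply hk
      apply Fin.ext
      have h1 : (i : ℕ) < p := i.2
      have h2 : m < p := k.2
      have h3 : 0 < d := by omega
      have h4 : d < 2 * p := by omega
      obtain ⟨c, hc⟩ := hdv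
      have : c = 1 := by
        rcases c with _ | _ | c
        · omega
        · rfl
        · exfalso
          have : p * 2 ≤ p * (c + 1 + 1) := Nat.mul_le_mul_left p (by omega)
          omega
      subst this
      omega
    obtain ⟨s, hs⟩ : ∃ s : ℕ, (w ^ d) ^ s = w := by
      have hcp : Nat.Coprime d (orderOf w) :=
        ((hp.out.coprime_iff_not_dvd.mpr hdp).symm).coprime_dvd_right (orderOf_dvd_of_pow_eq_one hw)
      exact exists_pow_eq_self_of_coprime hcp
    refine hwf P hPU.1 ?_
    rw [← hs]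
    clear hs
    induction s with
    | zero => simp
    | succ s ih => rw [pow_succ, MulAut.mul_apply, hPU.2]; exact ih
  have hkeep : ∀ v ∈ F, e ((y ^ (i : ℕ)) v) = ((y ^ (i : ℕ)) v) ^ p ^ (N + 1) := by
    intro v hv
    have hfix := hyk i v (mem_fixPts_one.mp hv.2)
    have : ∀ j : ℕ, (z ^ j) ((y ^ (i : ℕ)) v) = (y ^ (i : ℕ)) v := by
      intro j
      induction j with
      | zero => simp
      | succ j ih => rw [pow_succ, MulAut.mul_apply]; rw [show z ((y ^ (i : ℕ)) v) = _ from hfix]; exact ih
    show (∏ j ∈ Finset.range (p ^ (N + 1)), (z ^ j) ((y ^ (i : ℕ)) v)) = _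
    rw [Finset.prod_congr rfl fun j _ => this j, Finset.prod_const, Finset.card_range]
  have hproj : ∀ u : Fin p → F, e (∏ k : Fin p, (y ^ (k : ℕ)) (u k : V)) =
      ((y ^ (i : ℕ)) (u i : V)) ^ p ^ (N + 1) := by
    intro u
    rw [map_prod, Finset.prod_eq_single i]
    · exact hkeep _ (u i).2
    · exact fun k _ hk => hkill k hk _ (u k).2
    · exact fun h => absurd (Finset.mem_univ _) h
  have h' := congrArg e (congrArg Subtype.val h)
  rw [hproj, hproj] at h'
  exact Subtype.ext ((y ^ (i : ℕ)).injective (eq_of_pow_eq hcop h'))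

end Cfsg.Agent.Lib.RegularVector
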