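import Mathlib

/-!
The inequalities showing that few small fixed point subgroups cannot cover a module.
-/

set_option autoImplicit false

namespace Cfsg.Agent.Lib.RegularVector

theorem cover_bound {p s u t A B : ℕ} (hp : 2 ≤ p) (hu : 1 ≤ u) (ht : 2 ≤ t) (hts : t ^ p ≤ s)
    (hus : u ^ p ≤ s) (h : A * (s - 1) ≤ B * (u - 1)) (hs : 1 ≤ s) :
    A * t ^ (p - 1) ≤ B := by
  set m := max u t with hm
  have hms : m ^ p ≤ s := by
    rcases max_choice u t with e | e <;> rw [hm, e] <;> assumption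
  have hm2 : 2 ≤ m := le_max_of_le_right ht
  have h1 : (m - 1) * m ^ (p - 1) ≤ s - 1 := by
    have e : m ^ p = m * m ^ (p - 1) := by rw [← pow_succ']; congr 1; omega
    have h2 : (m - 1) * m ^ (p - 1) + m ^ (p - 1) = m * m ^ (p - 1) := by
      rw [← Nat.succ_mul]; congr 1; omega
    have h3 : 1 ≤ m ^ (p - 1) := Nat.one_le_pow _ _ (by omega)
    omega
  have h4 : A * ((m - 1) * m ^ (p - 1)) ≤ B * (m - 1) :=
    ((Nat.mul_le_mul_left A h1).trans h).trans
      (Nat.mul_le_mul_left B (by have := le_max_left u t; omega))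
  have h5 : (A * m ^ (p - 1)) * (m - 1) ≤ B * (m - 1) := by
    rw [mul_assoc, mul_comm (m ^ (p - 1))]; exact h4
  exact (Nat.mul_le_mul_left A (Nat.pow_le_pow_left (le_max_right u t) _)).trans
    (Nat.le_of_mul_le_mul_right h5 (by omega))

theorem exponent_bound {p k : ℕ} (hp : 3 ≤ p) (hk : 1 ≤ k) :
    2 * k ≤ (p - 1) * p ^ (k - 1) ∧ (2 * k + 1 ≤ (p - 1) * p ^ (k - 1) ∨ (p = 3 ∧ k = 1) ∨
      (p = 4 ∧ k = 1)) := by
  obtain ⟨j, rfl⟩ : ∃ j, k = j + 1 := ⟨k - 1, by omega⟩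
  rw [Nat.add_sub_cancel]
  have hj : 2 * j + 1 ≤ p ^ j := by
    induction j with
    | zero => simp
    | succ j ih =>
      have := ih (by omega)
      have h3 : 3 * p ^ j ≤ p * p ^ j := Nat.mul_le_mul_right _ hp
      rw [pow_succ']
      omega
  have h2 : 2 * p ^ j ≤ (p - 1) * p ^ j := Nat.mul_le_mul_right _ (by omega)
  refine ⟨by omega, ?_⟩
  rcases Nat.eq_zero_or_pos j with rfl | hj0
  · by_cases h : p = 3 ∨ p = 4
    · rcases h with h | h
      · exact Or.inr (Or.inl ⟨h, rfl⟩)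
      · exact Or.inr (Or.inr ⟨h, rfl⟩)
    · left; simp; omega
  · left; omega

/-- The count for an element centralising the cyclic kernel. -/
theorem central_count {p k M s u : ℕ} (hp : p.Prime) (hp2 : p ≠ 2) (hk : 1 ≤ k)
    (hM : M ≤ p ^ (2 * k)) (hs : (p + 1) ^ p ^ k ≤ s) (hu : 1 ≤ u) (hus : u ^ p ≤ s)
    (h : (p - 1) * (s - 1) ≤ p * (M - 1) * (u - 1)) : False := by
  have hp3 : 3 ≤ p := by have := hp.two_le; omega
  set t := (p + 1) ^ p ^ (k - 1) with ht
  have hts : t ^ p ≤ s := by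
    rw [ht, ← pow_mul, ← pow_succ, show k - 1 + 1 = k by omega]; exact hs
  have h2t : 2 ≤ t := by
    have : 1 ≤ p ^ (k - 1) := Nat.one_le_pow _ _ hp.pos
    calc 2 ≤ (p + 1) ^ 1 := by rw [pow_one]; omega
      _ ≤ t := Nat.pow_le_pow_right (by omega) this
  have hs1 : 1 ≤ s := le_trans (Nat.one_le_pow _ _ (by omega)) hts
  have hb := cover_bound hp.two_le hu h2t hts hus h hs1
  rw [ht, ← pow_mul, mul_comm (p ^ (k - 1))] at hb
  have hM' : p * (M - 1) + p ≤ p * p ^ (2 * k) := by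
    rw [← Nat.mul_succ]
    refine Nat.mul_le_mul_left p ?_
    have : 1 ≤ p ^ (2 * k) := Nat.one_le_pow _ _ hp.pos
    omega
  rw [← pow_succ'] at hM'
  rcases (exponent_bound hp3 hk).2 with he | ⟨rfl, rfl⟩ | ⟨rfl, -⟩
  · have h1 : (p + 1) ^ (2 * k + 1) ≤ (p + 1) ^ ((p - 1) * p ^ (k - 1)) :=
      Nat.pow_le_pow_right (by omega) he
    have h2 : p ^ (2 * k + 1) ≤ (p + 1) ^ (2 * k + 1) := Nat.pow_le_pow_left (by omega) _
    have h3 : 1 * (p + 1) ^ ((p - 1) * p ^ (k - 1)) ≤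
        (p - 1) * (p + 1) ^ ((p - 1) * p ^ (k - 1)) := Nat.mul_le_mul_right _ (by omega)
    have := hp.pos
    omega
  · norm_num at hb hM'
    omega
  · norm_num at hp

/-- The count for an element acting nontrivially on the cyclic kernel. -/
theorem semilinear_count {p k M s u : ℕ} (hp : p.Prime) (hp2 : p ≠ 2)
    (hM : M ≤ p ^ (2 * k)) (hs : (p ^ 2 + 1) ^ p ^ k ≤ s) (hu : 2 ≤ u) (hus : u ^ p ≤ s)
    (h : (p - 1) * (s - 1) ≤ p * ((p - 1) * M) * (u - 1)) : False := by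
  have hp3 : 3 ≤ p := by have := hp.two_le; omega
  have h' : 1 * (s - 1) ≤ p * M * (u - 1) := by
    rw [one_mul]
    refine Nat.le_of_mul_le_mul_left (h.trans (le_of_eq ?_)) (show 0 < p - 1 by omega)
    ring
  have hs1 : 1 ≤ s := le_trans (Nat.one_le_pow _ _ (by omega)) hs
  rcases Nat.eq_zero_or_pos k with rfl | hk
  · have hM1 : M ≤ 1 := by simpa using hM
    have hb := cover_bound hp.two_le (by omega) le_rfl (le_trans (Nat.pow_le_pow_left hu p) hus)
      hus h' hs1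
    have h2 : p < 2 ^ (p - 1) := by
      obtain ⟨j, rfl⟩ : ∃ j, p = j + 3 := ⟨p - 3, by omega⟩
      rw [show j + 3 - 1 = j + 2 by omega, pow_add]
      have := @Nat.lt_two_pow_self j
      omega
    have : p * M ≤ p * 1 := Nat.mul_le_mul_left p hM1
    omega
  · set t := (p ^ 2 + 1) ^ p ^ (k - 1) with ht
    have hts : t ^ p ≤ s := by
      rw [ht, ← pow_mul, ← pow_succ, show k - 1 + 1 = k by omega]; exact hs
    have h2t : 2 ≤ t := by
      have : 1 ≤ p ^ (k - 1) := Nat.one_le_pow _ _ hp.pos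
      calc 2 ≤ (p ^ 2 + 1) ^ 1 := by
            rw [pow_one]
            have : 1 ≤ p ^ 2 := Nat.one_le_pow _ _ hp.pos
            omega
        _ ≤ t := Nat.pow_le_pow_right (by omega) this
    have hb := cover_bound hp.two_le (by omega) h2t hts hus h' hs1
    rw [ht, ← pow_mul, mul_comm (p ^ (k - 1))] at hb
    have hM' : p * M ≤ p * p ^ (2 * k) := Nat.mul_le_mul_left p hM
    rw [← pow_succ'] at hM'
    have he := (exponent_bound hp3 hk).1
    have h1 : (p ^ 2) ^ (2 * k) < (p ^ 2 + 1) ^ (2 * k) := Nat.pow_lt_pow_left (by omega) (by omega)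
    have h1' : (p ^ 2 + 1) ^ (2 * k) ≤ (p ^ 2 + 1) ^ ((p - 1) * p ^ (k - 1)) :=
      Nat.pow_le_pow_right (by omega) he
    have h2 : p ^ (2 * k + 1) ≤ (p ^ 2) ^ (2 * k) := by
      rw [← pow_mul]; exact Nat.pow_le_pow_right hp.pos (by omega)
    omega

end Cfsg.Agent.Lib.RegularVector
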