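import Cfsg.Agent.Lib.RegularVector.ClassTwo
import Cfsg.Agent.Lib.RegularVector.Numeric

/-!
The primitive case: every normal abelian subgroup in the `p`-group is cyclic.
-/

set_option autoImplicit false
set_option linter.unusedSectionVars false
set_option linter.style.haveILetI false

namespace Cfsg.Agent.Lib.RegularVector

open scoped commutatorElement

universe u

variable {V : Type u} [CommGroup V] [Finite V] {p : ℕ} [hp : Fact p.Prime]

theorem exists_kernel {H P : Subgroup (MulAut V)} (hPH : P ≤ H)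
    (hnorm : ∀ h ∈ H, ∀ x ∈ P, h * x * h⁻¹ ∈ P) (hP : IsPGroup p P) (hp2 : p ≠ 2) (hne : P ≠ ⊥)
    (hsmall : ∀ B : Subgroup (MulAut V), B ≤ P → (∀ h ∈ H, ∀ x ∈ B, h * x * h⁻¹ ∈ B) →
      (∀ x ∈ B, ∀ y ∈ B, Commute x y) → (∀ x ∈ B, x ^ p = 1) → Nat.card B ≤ p)
    (hirr : ∀ U : Subgroup V, (∀ h ∈ H, ∀ u ∈ U, h u ∈ U) → U = ⊥ ∨ U = ⊤) :
    ∃ (B C : Subgroup (MulAut V)) (z : MulAut V), z ≠ 1 ∧ IsCyclic B ∧
      (∀ h ∈ H, ∀ x ∈ B, h * x * h⁻¹ ∈ B) ∧ (∀ x ∈ B, x ^ p = 1 → x ∈ Subgroup.zpowers z) ∧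
      Core p B C z ∧ (∀ c, c ∈ C ↔ c ∈ P ∧ ∀ b ∈ B, Commute b c) ∧
      (∀ c ∈ C, (∀ d ∈ C, Commute c d) → c ∈ B) := by
  classical
  let S : Set (Subgroup (MulAut V)) := {B | B ≤ P ∧ (∀ h ∈ H, ∀ x ∈ B, h * x * h⁻¹ ∈ B) ∧
    ∀ x ∈ B, ∀ y ∈ B, Commute x y}
  obtain ⟨B, hBmax⟩ := (Set.toFinite S).exists_maximal ⟨⊥, bot_le, fun h _ x hx => by
    rw [Subgroup.mem_bot] at hx ⊢; rw [hx, mul_one, mul_inv_cancel], fun x hx y _ => by
    rw [Subgroup.mem_bot] at hx; rw [hx]; exact Commute.one_left y⟩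
  obtain ⟨hBP, hBn, hBc⟩ := hBmax.1
  have hmax : ∀ B' ∈ S, B ≤ B' → B' = B := fun B' h1 h2 => le_antisymm (hBmax.2 h1 h2) h2
  -- the centraliser
  set C := P ⊓ Subgroup.centralizer (B : Set (MulAut V)) with hC
  have hCmem : ∀ c, c ∈ C ↔ c ∈ P ∧ ∀ b ∈ B, Commute b c := fun c =>
    ⟨fun h => ⟨h.1, fun b hb => Subgroup.mem_centralizer_iff.mp h.2 b hb⟩,
      fun h => ⟨h.1, Subgroup.mem_centralizer_iff.mpr fun b hb => (h.2 b hb).eq⟩⟩
  have hBC : B ≤ C := fun b hb => (hCmem b).mpr ⟨hBP hb, fun b' hb' => hBc b' hb' b hb⟩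
  have hCn : ∀ h ∈ H, ∀ x ∈ C, h * x * h⁻¹ ∈ C := by
    intro h hh x hx
    obtain ⟨hxP, hxB⟩ := (hCmem x).mp hx
    refine (hCmem _).mpr ⟨hnorm h hh x hxP, fun b hb => ?_⟩
    have h1 := hBn h⁻¹ (H.inv_mem hh) b hb
    rw [inv_inv] at h1
    have h2 := (hxB _ h1).map (MulAut.conj h).toMonoidHom
    have e : h * (h⁻¹ * b * h) * h⁻¹ = b := by group
    simp only [MulEquiv.coe_toMonoidHom, MulAut.conj_apply, e] at h2
    exact h2
  -- `B` is not trivial
  have hBne : B ≠ ⊥ := by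
    intro hB
    set Z := P ⊓ Subgroup.centralizer (P : Set (MulAut V)) with hZ
    have hZS : Z ∈ S := by
      refine ⟨inf_le_left, fun h hh x hx => ⟨hnorm h hh x hx.1, ?_⟩, fun x hx y hy =>
        (Subgroup.mem_centralizer_iff.mp hy.2 x hx.1)⟩
      refine Subgroup.mem_centralizer_iff.mpr fun y hy => ?_
      have h1 := hnorm h⁻¹ (H.inv_mem hh) y hy
      rw [inv_inv] at h1
      have h2 := Subgroup.mem_centralizer_iff.mp hx.2 _ h1
      calc y * (h * x * h⁻¹) = h * ((h⁻¹ * y * h) * x) * h⁻¹ := by group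
        _ = h * (x * (h⁻¹ * y * h)) * h⁻¹ := by rw [h2]
        _ = _ := by group
    have hZB := hmax Z hZS (hB ▸ bot_le)
    have : Nontrivial P := (Subgroup.nontrivial_iff_ne_bot P).mpr hne
    obtain ⟨e, he, he1⟩ := (Subgroup.bot_or_exists_ne_one (Subgroup.center P)).resolve_left
      hP.bot_lt_center.ne'
    have : (e : MulAut V) ∈ Z := ⟨e.2, Subgroup.mem_centralizer_iff.mpr fun y hy =>
      congrArg Subtype.val (Subgroup.mem_center_iff.mp he ⟨y, hy⟩)⟩
    rw [hZB, hB, Subgroup.mem_bot] at this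
    exact he1 (Subtype.ext this)
  -- the subgroup of order `p`
  let Ω : Subgroup (MulAut V) :=
    { carrier := {x | x ∈ B ∧ x ^ p = 1}
      one_mem' := ⟨B.one_mem, one_pow p⟩
      mul_mem' := fun {x y} hx hy => ⟨B.mul_mem hx.1 hy.1, by
        rw [(hBc x hx.1 y hy.1).mul_pow, hx.2, hy.2, one_mul]⟩
      inv_mem' := fun {x} hx => ⟨B.inv_mem hx.1, by rw [inv_pow, hx.2, inv_one]⟩ }
  have hΩn : ∀ h ∈ H, ∀ x ∈ Ω, h * x * h⁻¹ ∈ Ω := fun h hh x hx =>
    ⟨hBn h hh x hx.1, by rw [conj_pow, hx.2, mul_one, mul_inv_cancel]⟩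
  have hΩcard : Nat.card Ω ≤ p := hsmall Ω (fun x hx => hBP hx.1) hΩn
    (fun x hx y hy => hBc x hx.1 y hy.1) fun x hx => hx.2
  have hBp : IsPGroup p B := hP.to_le hBP
  obtain ⟨z, hzB, hzo⟩ : ∃ z ∈ B, orderOf z = p := by
    obtain ⟨n, hn, hcard⟩ := hBp.nontrivial_iff_card.mp ((Subgroup.nontrivial_iff_ne_bot B).mpr hBne)
    obtain ⟨z, hz⟩ := exists_prime_orderOf_dvd_card' (G := B) p (hcard ▸ dvd_pow_self p (by omega))
    exact ⟨z, z.2, by rw [Subgroup.orderOf_coe, hz]⟩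
  have hzp : z ^ p = 1 := by rw [← hzo]; exact pow_orderOf_eq_one z
  have hz1 : z ≠ 1 := fun e => hp.out.ne_one (by rw [← hzo, e, orderOf_one])
  have hΩz : ∀ x ∈ B, x ^ p = 1 → x ∈ Subgroup.zpowers z := by
    intro x hx hxp
    have hle : Subgroup.zpowers z ≤ Ω := Subgroup.zpowers_le.mpr ⟨hzB, hzp⟩
    rw [Subgroup.eq_of_le_of_card_ge hle (by rw [Nat.card_zpowers, hzo]; exact hΩcard)]
    exact ⟨hx, hxp⟩
  have hcyc : IsCyclic B := by
    refine Cfsg.Agent.Lib.SylowInter.OddCyclic.isCyclic_of_unique hp2 hBp fun x y hx hy => ?_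
    have hxz := hΩz x x.2 (by rw [← Subgroup.coe_pow, ← hx, pow_orderOf_eq_one]; rfl)
    have hyz := hΩz y y.2 (by rw [← Subgroup.coe_pow, hy]; rfl)
    have e : Subgroup.zpowers (x : MulAut V) = Subgroup.zpowers z :=
      Subgroup.eq_of_le_of_card_ge (Subgroup.zpowers_le.mpr hxz)
        (by rw [Nat.card_zpowers, Nat.card_zpowers, hzo, Subgroup.orderOf_coe, hx])
    rw [← e] at hyz
    obtain ⟨i, hi⟩ := Subgroup.mem_zpowers_iff.mp hyz
    exact Subgroup.mem_zpowers_iff.mpr ⟨i, Subtype.ext (by rw [Subgroup.coe_zpow, hi])⟩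
  have hzfpf : ∀ u : V, z u = u → u = 1 := by
    intro u hu
    have hinv : ∀ h ∈ H, ∀ w ∈ fixPts (Ω : Set (MulAut V)), h w ∈ fixPts (Ω : Set (MulAut V)) := by
      intro h hh w hw x hx
      have h1 := hw _ (hΩn h⁻¹ (H.inv_mem hh) x hx)
      rw [inv_inv] at h1
      calc x (h w) = h ((h⁻¹ * x * h) w) := by
            rw [← MulAut.mul_apply, ← MulAut.mul_apply]; congr 1; group
        _ = h w := by rw [h1]
    have hmem : u ∈ fixPts (Ω : Set (MulAut V)) := by
      intro x hx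
      obtain ⟨i, hi⟩ := mem_powers_iff_mem_zpowers.mpr (hΩz x hx.1 hx.2)
      rw [← hi]
      show (z ^ i) u = u
      clear hi
      induction i with
      | zero => simp
      | succ i ih => rw [pow_succ, MulAut.mul_apply, hu, ih]
    rcases hirr _ hinv with h | h
    · rw [h, Subgroup.mem_bot] at hmem; exact hmem
    · exfalso
      refine hz1 (MulEquiv.ext fun w => ?_)
      have : w ∈ fixPts (Ω : Set (MulAut V)) := h ▸ Subgroup.mem_top w
      exact this z ⟨hzB, hzp⟩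
  have hfpf : ∀ b ∈ B, b ≠ 1 → ∀ u : V, b u = u → u = 1 := by
    intro b hb hb1 u hu
    refine hzfpf u ?_
    obtain ⟨n, hn⟩ := hBp ⟨b, hb⟩
    have hn' : b ^ p ^ n = 1 := congrArg Subtype.val hn
    obtain ⟨j, -, hj⟩ := (Nat.dvd_prime_pow hp.out).mp (orderOf_dvd_of_pow_eq_one hn')
    have hj0 : j ≠ 0 := by
      rintro rfl
      exact hb1 (orderOf_eq_one_iff.mp (by rw [hj, pow_zero]))
    set b' := b ^ p ^ (j - 1) with hb'
    have hb'o : orderOf b' = p := by
      rw [hb', orderOf_pow, hj, Nat.gcd_eq_right (pow_dvd_pow p (Nat.sub_le j 1)),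
        Nat.pow_div (Nat.sub_le j 1) hp.out.pos, show j - (j - 1) = 1 by omega, pow_one]
    have hb'p : b' ^ p = 1 := by rw [← hb'o]; exact pow_orderOf_eq_one b'
    have e : Subgroup.zpowers b' = Subgroup.zpowers z :=
      Subgroup.eq_of_le_of_card_ge (Subgroup.zpowers_le.mpr (hΩz b' (B.pow_mem hb _) hb'p))
        (by rw [Nat.card_zpowers, Nat.card_zpowers, hzo, hb'o])
    obtain ⟨i, hi⟩ := mem_powers_iff_mem_zpowers.mpr (e.symm ▸ Subgroup.mem_zpowers z :
      z ∈ Subgroup.zpowers b')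
    rw [← hi]
    show (b' ^ i) u = u
    rw [hb', ← pow_mul]
    generalize p ^ (j - 1) * i = l
    induction l with
    | zero => simp
    | succ l ih => rw [pow_succ, MulAut.mul_apply, hu, ih]
  -- the auxiliary normal set
  let E : Set (MulAut V) := {c | c ∈ C ∧ (∀ d ∈ C, ⁅c, d⁆ ∈ B) ∧ c ^ p ∈ B}
  have hEn : ∀ h ∈ H, ∀ x ∈ E, h * x * h⁻¹ ∈ E := by
    rintro h hh x ⟨h1, h2, h3⟩
    refine ⟨hCn h hh x h1, fun d hd => ?_, by rw [conj_pow]; exact hBn h hh _ h3⟩
    have h4 := hCn h⁻¹ (H.inv_mem hh) d hd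
    rw [inv_inv] at h4
    have h5 := hBn h hh _ (h2 _ h4)
    convert h5 using 1
    simp only [commutatorElement_def]; group
  set L := C ⊓ Subgroup.centralizer E with hL
  have hBL : B ≤ L := fun b hb => ⟨hBC hb, Subgroup.mem_centralizer_iff.mpr fun e he =>
    (((hCmem e).mp he.1).2 b hb).symm.eq⟩
  have hLn : ∀ h ∈ H, ∀ x ∈ L, h * x * h⁻¹ ∈ L := by
    intro h hh x hx
    refine ⟨hCn h hh x hx.1, Subgroup.mem_centralizer_iff.mpr fun e he => ?_⟩
    have h1 := hEn h⁻¹ (H.inv_mem hh) e he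
    rw [inv_inv] at h1
    have h2 := Subgroup.mem_centralizer_iff.mp hx.2 _ h1
    calc e * (h * x * h⁻¹) = h * ((h⁻¹ * e * h) * x) * h⁻¹ := by group
      _ = h * (x * (h⁻¹ * e * h)) * h⁻¹ := by rw [h2]
      _ = _ := by group
  have hLB : L ≤ B := by
    intro l₀ hl₀
    by_contra hl₀B
    -- work modulo `B` in `C`
    set B' := B.subgroupOf C with hB'
    have : B'.Normal := by
      refine ⟨fun b hb c => ?_⟩
      rw [hB', Subgroup.mem_subgroupOf] at hb ⊢
      have hc := ((hCmem c).mp c.2).2 _ hb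
      rw [Subgroup.coe_mul, Subgroup.coe_mul, Subgroup.coe_inv, ← hc.eq, mul_inv_cancel_right]
      exact hb
    set π := QuotientGroup.mk' B' with hπ
    set L' := (L.subgroupOf C).map π with hL'
    have hL'n : L'.Normal := by
      refine Subgroup.Normal.map ⟨fun x hx c => ?_⟩ π (QuotientGroup.mk'_surjective B')
      rw [Subgroup.mem_subgroupOf] at hx ⊢
      exact hLn _ (hPH ((hCmem c).mp c.2).1) _ hx
    have hL'ne : L' ≠ ⊥ := by
      intro h
      have : π ⟨l₀, hl₀.1⟩ ∈ L' := ⟨⟨l₀, hl₀.1⟩, hl₀, rfl⟩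
      rw [h, Subgroup.mem_bot, hπ, QuotientGroup.mk'_apply, QuotientGroup.eq_one_iff, hB',
        Subgroup.mem_subgroupOf] at this
      exact hl₀B this
    have hQ : IsPGroup p (C ⧸ B') := (hP.to_le inf_le_left).to_quotient B'
    have hmeet := Cfsg.Agent.Lib.PGroups.normal_inf_center_ne_bot hQ L' hL'ne
    obtain ⟨q, hqL, hqo⟩ : ∃ q ∈ L' ⊓ Subgroup.center (C ⧸ B'), orderOf q = p := by
      obtain ⟨n, hn, hcard⟩ := (hQ.to_subgroup _).nontrivial_iff_card.mp
        ((Subgroup.nontrivial_iff_ne_bot _).mpr hmeet)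
      obtain ⟨e, he⟩ := exists_prime_orderOf_dvd_card'
        (G := (L' ⊓ Subgroup.center (C ⧸ B') : Subgroup (C ⧸ B'))) p
        (hcard ▸ dvd_pow_self p (by omega))
      exact ⟨e, e.2, by rw [Subgroup.orderOf_coe, he]⟩
    obtain ⟨⟨⟨l, hlC⟩, hlL, rfl⟩, hqc⟩ := hqL
    have hlE : l ∈ E := by
      refine ⟨hlC, fun d hd => ?_, ?_⟩
      · have h1 : π ⁅(⟨l, hlC⟩ : C), ⟨d, hd⟩⁆ = 1 := by
          rw [map_commutatorElement, commutatorElement_eq_one_iff_mul_comm]
          exact (Subgroup.mem_center_iff.mp hqc _).symm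
        rw [hπ, QuotientGroup.mk'_apply, QuotientGroup.eq_one_iff, hB', Subgroup.mem_subgroupOf] at h1
        exact h1
      · have h1 : π ((⟨l, hlC⟩ : C) ^ p) = 1 := by rw [map_pow, ← hqo, pow_orderOf_eq_one]
        rw [hπ, QuotientGroup.mk'_apply, QuotientGroup.eq_one_iff, hB', Subgroup.mem_subgroupOf] at h1
        exact h1
    set D := Subgroup.closure ((L : Set (MulAut V)) ∩ E) with hD
    have hDS : D ∈ S := by
      refine ⟨(Subgroup.closure_le _).mpr fun x hx => ((hCmem x).mp hx.2.1).1, fun h hh x hx => ?_,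
        fun x hx y hy => ?_⟩
      · have hle : D.map (MulAut.conj h).toMonoidHom ≤ D := by
          rw [hD, MonoidHom.map_closure]
          refine Subgroup.closure_mono ?_
          rintro _ ⟨y, hy, rfl⟩
          exact ⟨hLn h hh y hy.1, hEn h hh y hy.2⟩
        exact hle ⟨x, hx, rfl⟩
      · have hcl : D ≤ Subgroup.centralizer ((L : Set (MulAut V)) ∩ E) :=
          (Subgroup.closure_le _).mpr fun x hx => Subgroup.mem_centralizer_iff.mpr fun y hy =>
            Subgroup.mem_centralizer_iff.mp hx.1.2 y hy.2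
        have hcl2 : D ≤ Subgroup.centralizer (D : Set (MulAut V)) :=
          (Subgroup.closure_le _).mpr fun y hy => Subgroup.mem_centralizer_iff.mpr fun x hx =>
            (Subgroup.mem_centralizer_iff.mp (hcl hx) y hy).symm
        exact Subgroup.mem_centralizer_iff.mp (hcl2 hy) x hx
    have hBD : B ≤ D := fun b hb => Subgroup.subset_closure ⟨hBL hb, hBC hb,
      fun d hd => by
        rw [commutatorElement_eq_one_iff_commute.mpr (((hCmem d).mp hd).2 b hb)]
        exact B.one_mem, B.pow_mem hb p⟩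
    have hlB : l ∈ B := hmax D hDS hBD ▸ Subgroup.subset_closure ⟨hlL, hlE⟩
    refine hp.out.ne_one ?_
    rw [← hqo, orderOf_eq_one_iff]
    exact (QuotientGroup.eq_one_iff _).mpr hlB
  -- commutators are central
  have hcB : ∀ e ∈ E, ∀ c ∈ C, ⁅c, e⁆ ∈ B := fun e he c hc => by
    rw [← commutatorElement_inv]; exact B.inv_mem (he.2.1 c hc)
  have hφ : ∀ e ∈ E, ∀ c ∈ C, ∀ d ∈ C, ⁅c * d, e⁆ = ⁅c, e⁆ * ⁅d, e⁆ := by
    intro e he c hc d hd
    have h1 : Commute ⁅d, e⁆ c := ((hCmem c).mp hc).2 _ (hcB e he d hd)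
    have h2 : Commute ⁅c, e⁆ ⁅d, e⁆ := hBc _ (hcB e he c hc) _ (hcB e he d hd)
    calc ⁅c * d, e⁆ = c * ⁅d, e⁆ * c⁻¹ * ⁅c, e⁆ := by simp only [commutatorElement_def]; group
      _ = ⁅d, e⁆ * ⁅c, e⁆ := by rw [← h1.eq, mul_inv_cancel_right]
      _ = _ := h2.eq.symm
  have hCC : ∀ c ∈ C, ∀ d ∈ C, ⁅c, d⁆ ∈ B := by
    intro c hc d hd
    have hm : ⁅c, d⁆ ∈ C := C.mul_mem (C.mul_mem (C.mul_mem hc hd) (C.inv_mem hc)) (C.inv_mem hd)
    refine hLB ⟨hm, Subgroup.mem_centralizer_iff.mpr fun e he => ?_⟩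
    let φ : C →* MulAut V :=
      { toFun := fun c => ⁅(c : MulAut V), e⁆
        map_one' := by simp [commutatorElement_def]
        map_mul' := fun c d => hφ e he c c.2 d d.2 }
    have h1 : φ ⁅(⟨c, hc⟩ : C), ⟨d, hd⟩⁆ = 1 := by
      rw [map_commutatorElement, commutatorElement_eq_one_iff_mul_comm]
      exact hBc _ (hcB e he c hc) _ (hcB e he d hd)
    exact (commutatorElement_eq_one_iff_mul_comm.mp h1).symm
  have hcm : ∀ c ∈ C, ∀ d ∈ C, ∀ e ∈ C, ⁅c, d * e⁆ = ⁅c, d⁆ * ⁅c, e⁆ := by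
    intro c hc d hd e he
    have h1 : Commute ⁅c, e⁆ d := ((hCmem d).mp hd).2 _ (hCC c hc e he)
    calc ⁅c, d * e⁆ = ⁅c, d⁆ * (d * ⁅c, e⁆ * d⁻¹) := by simp only [commutatorElement_def]; group
      _ = _ := by rw [← h1.eq, mul_inv_cancel_right]
  have hcpow : ∀ c ∈ C, ∀ d ∈ C, ∀ k : ℕ, ⁅c, d ^ k⁆ = ⁅c, d⁆ ^ k := by
    intro c hc d hd k
    induction k with
    | zero => simp [commutatorElement_def]
    | succ k ih => rw [pow_succ, hcm c hc _ (C.pow_mem hd k) d hd, ih, pow_succ]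
  have hcpB : ∀ c ∈ C, c ^ p ∈ B := by
    intro c hc
    refine hLB ⟨C.pow_mem hc p, Subgroup.mem_centralizer_iff.mpr fun e he => ?_⟩
    have h1 : ⁅c, e ^ p⁆ = 1 :=
      commutatorElement_eq_one_iff_commute.mpr (((hCmem c).mp hc).2 _ he.2.2).symm
    rw [hcpow c hc e he.1] at h1
    have h2 : ⁅e, c⁆ ^ p = 1 := by rw [← commutatorElement_inv, inv_pow, h1, inv_one]
    rw [← hcpow e he.1 c hc] at h2
    exact commutatorElement_eq_one_iff_mul_comm.mp h2
  refine ⟨B, C, z, hz1, hcyc, hBn, hΩz,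
    { le := hBC, pgroup := hP.to_le inf_le_left, central := fun b hb c hc => ((hCmem c).mp hc).2 b hb,
      fpf := hfpf, zmem := hzB, zpow := hzp, comm := fun c hc d hd => hΩz _ (hCC c hc d hd) ?_ },
    hCmem, fun c hc hcomm => ?_⟩
  · rw [← hcpow c hc d hd]
    exact commutatorElement_eq_one_iff_commute.mpr (((hCmem c).mp hc).2 _ (hcpB d hd)).symm
  · set Z := C ⊓ Subgroup.centralizer (C : Set (MulAut V)) with hZ
    have hZS : Z ∈ S := by
      refine ⟨inf_le_left.trans inf_le_left, fun h hh x hx => ⟨hCn h hh x hx.1, ?_⟩,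
        fun x hx y hy => Subgroup.mem_centralizer_iff.mp hy.2 x hx.1⟩
      refine Subgroup.mem_centralizer_iff.mpr fun y hy => ?_
      have h1 := hCn h⁻¹ (H.inv_mem hh) y hy
      rw [inv_inv] at h1
      have h2 := Subgroup.mem_centralizer_iff.mp hx.2 _ h1
      calc y * (h * x * h⁻¹) = h * ((h⁻¹ * y * h) * x) * h⁻¹ := by group
        _ = h * (x * (h⁻¹ * y * h)) * h⁻¹ := by rw [h2]
        _ = _ := by group
    have hBZ : B ≤ Z := fun b hb => ⟨hBC hb, Subgroup.mem_centralizer_iff.mpr fun d hd =>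
      (((hCmem d).mp hd).2 b hb).symm.eq⟩
    rw [← hmax Z hZS hBZ]
    exact ⟨hc, Subgroup.mem_centralizer_iff.mpr fun d hd => (hcomm d hd).symm.eq⟩

/-- Elements of a `p`-group act on a cyclic normal subgroup through its socle. -/
theorem comm_mem_socle {B : Subgroup (MulAut V)} [IsCyclic B] (hp2 : p ≠ 2) (hB : IsPGroup p B)
    {z x : MulAut V} (hz : z ∈ B) (hzp : z ^ p = 1)
    (hΩ : ∀ b ∈ B, b ^ p = 1 → b ∈ Subgroup.zpowers z)
    (hxB : ∀ b ∈ B, x * b * x⁻¹ ∈ B) (hx : x ^ p = 1) :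
    Commute x z ∧ ∀ b ∈ B, ⁅x, b⁆ ∈ Subgroup.zpowers z := by
  classical
  obtain ⟨g, hg⟩ := IsCyclic.exists_generator (α := B)
  obtain ⟨n, hn⟩ := IsPGroup.iff_card.mp hB
  have hgo : orderOf (g : MulAut V) = p ^ n := by
    rw [Subgroup.orderOf_coe, orderOf_eq_card_of_forall_mem_zpowers hg, hn]
  have hbpow : ∀ b ∈ B, ∃ j : ℕ, b = (g : MulAut V) ^ j := by
    intro b hb
    obtain ⟨j, hj⟩ := mem_powers_iff_mem_zpowers.mpr (hg ⟨b, hb⟩)
    exact ⟨j, (congrArg Subtype.val hj).symm⟩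
  obtain ⟨m₀, hm₀⟩ := hbpow _ (hxB g g.2)
  set m := m₀ + p ^ n with hm
  have hxg : x * g * x⁻¹ = (g : MulAut V) ^ m := by
    rw [hm, pow_add, ← hgo, pow_orderOf_eq_one, mul_one]; exact hm₀
  have hm1 : 1 ≤ m := by have := Nat.one_le_pow n p hp.out.pos; omega
  have hiter : ∀ k : ℕ, x ^ k * g * (x ^ k)⁻¹ = (g : MulAut V) ^ m ^ k := by
    intro k
    induction k with
    | zero => simp
    | succ k ih =>
      calc x ^ (k + 1) * g * (x ^ (k + 1))⁻¹ = x * (x ^ k * g * (x ^ k)⁻¹) * x⁻¹ := by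
            rw [pow_succ']; group
        _ = (x * g * x⁻¹) ^ m ^ k := by rw [ih, conj_pow]
        _ = (g : MulAut V) ^ m ^ (k + 1) := by rw [hxg, ← pow_mul, pow_succ' m]
  rcases Nat.eq_zero_or_pos n with rfl | hn0
  · rw [pow_zero] at hn
    have hB1 : ∀ b ∈ B, b = 1 := fun b hb => by
      have : (⟨b, hb⟩ : B) = 1 := (Nat.card_eq_one_iff_unique.mp hn).1.elim _ _
      exact congrArg Subtype.val this
    refine ⟨by rw [hB1 z hz]; exact Commute.one_right x, fun b hb => ?_⟩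
    rw [hB1 b hb]; simp [commutatorElement_def]
  have hmodp : p ^ n ∣ m ^ p - 1 := by
    have h1 := hiter p
    rw [hx, one_mul, inv_one, mul_one] at h1
    have h2 : (g : MulAut V) ^ 1 = (g : MulAut V) ^ m ^ p := by rw [pow_one]; exact h1
    rw [pow_eq_pow_iff_modEq, hgo] at h2
    exact (Nat.modEq_iff_dvd' (Nat.one_le_pow _ _ hm1)).mp h2
  have hpm : p ∣ m - 1 := by
    have h1 : ((m ^ p - 1 : ℕ) : ZMod p) = 0 :=
      (ZMod.natCast_eq_zero_iff _ p).mpr ((dvd_pow_self p (by omega)).trans hmodp)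
    rw [Nat.cast_sub (Nat.one_le_pow _ _ hm1), Nat.cast_pow, ZMod.pow_card, ← Nat.cast_sub hm1] at h1
    exact (ZMod.natCast_eq_zero_iff _ p).mp h1
  have hkey : p ^ (n - 1) ∣ m - 1 := by
    rcases eq_or_lt_of_le hm1 with e | hlt
    · rw [← e]; simp
    have hnd : ¬ p ∣ m := fun hd => by
      have := Nat.dvd_sub hd hpm
      rw [show m - (m - 1) = 1 by omega] at this
      exact hp.out.ne_one (Nat.dvd_one.mp this)
    have hv := padicValNat.pow_sub_pow (p := p) (hp1 := hp.out.odd_of_ne_two hp2) (x := m) (y := 1)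
      (by omega) hpm hnd hp.out.ne_zero
    rw [one_pow, padicValNat.self hp.out.one_lt] at hv
    have hne : m ^ p - 1 ≠ 0 := by
      have := Nat.one_lt_pow hp.out.ne_zero hlt; omega
    have h1 := (padicValNat_dvd_iff_le hne).mp hmodp
    rw [hv] at h1
    exact (padicValNat_dvd_iff_le (by omega)).mpr (by omega)
  have hgw : ⁅x, (g : MulAut V)⁆ = (g : MulAut V) ^ (m - 1) := by
    rw [commutatorElement_def, hxg]
    nth_rw 1 [show m = m - 1 + 1 by omega]
    rw [pow_succ, mul_inv_cancel_right]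
  refine ⟨?_, fun b hb => ?_⟩
  · obtain ⟨j, rfl⟩ := hbpow z hz
    have hj : p ^ n ∣ j * p := by
      rw [← hgo, orderOf_dvd_iff_pow_eq_one, pow_mul]; exact hzp
    have h1 : p ^ n ∣ j * (m - 1) := hj.trans (Nat.mul_dvd_mul_left j hpm)
    show x * (g : MulAut V) ^ j = (g : MulAut V) ^ j * x
    have e : x * (g : MulAut V) ^ j * x⁻¹ = (g : MulAut V) ^ j := by
      rw [← conj_pow, hxg, ← pow_mul, pow_eq_pow_iff_modEq, hgo]
      refine ((Nat.modEq_iff_dvd' ?_).mpr ?_).symm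
      · exact Nat.le_mul_of_pos_left j (by omega)
      · rwa [mul_comm m j, ← Nat.mul_sub_one]
    exact mul_inv_eq_iff_eq_mul.mp e
  · obtain ⟨j, rfl⟩ := hbpow b hb
    have e : ⁅x, (g : MulAut V) ^ j⁆ = ((g : MulAut V) ^ (m - 1)) ^ j := by
      rw [commutatorElement_def, ← conj_pow, hxg, ← pow_mul, ← pow_mul, mul_inv_eq_iff_eq_mul,
        ← pow_add]
      congr 1
      rw [Nat.sub_mul, one_mul, Nat.sub_add_cancel (Nat.le_mul_of_pos_left j (by omega))]
    rw [e]
    refine Subgroup.pow_mem _ (hΩ _ (B.pow_mem g.2 _) ?_) j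
    rw [← pow_mul, ← orderOf_dvd_iff_pow_eq_one, hgo]
    obtain ⟨c, hc⟩ := hkey
    rw [hc, show p ^ n = p ^ (n - 1) * p by rw [← pow_succ, Nat.sub_add_cancel hn0]]
    exact ⟨c, by ring⟩

/-- Two elements of order `p` in a coset of the kernel differ by an element of the socle. -/
theorem pow_prime_of_coset (hp2 : p ≠ 2) {z x b : MulAut V} (hzp : z ^ p = 1)
    (hu : ⁅x, b⁆ ∈ Subgroup.zpowers z) (hxz : Commute x z) (hbz : Commute b z) (hx : x ^ p = 1)
    (hbx : (b * x) ^ p = 1) : b ^ p = 1 := by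
  obtain ⟨i, hi⟩ := Subgroup.mem_zpowers_iff.mp hu
  set u := ⁅x, b⁆ with hudef
  have hxu : Commute x u := hi ▸ hxz.zpow_right i
  have hbu : Commute b u := hi ▸ hbz.zpow_right i
  have hxb : x * b = u * b * x := by rw [hudef, commutatorElement_def]; group
  have hk : ∀ k : ℕ, x ^ k * b = u ^ k * b * x ^ k := by
    intro k
    induction k with
    | zero => simp
    | succ k ih =>
      calc x ^ (k + 1) * b = x * (x ^ k * b) := by rw [pow_succ', mul_assoc]
        _ = (x * u ^ k) * b * x ^ k := by rw [ih]; simp only [mul_assoc]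
        _ = u ^ k * (x * b) * x ^ k := by rw [(hxu.pow_right k).eq]; simp only [mul_assoc]
        _ = u ^ k * (u * b * x) * x ^ k := by rw [hxb]
        _ = u ^ (k + 1) * b * x ^ (k + 1) := by rw [pow_succ u, pow_succ' x]; simp only [mul_assoc]
  have hpow : ∀ k : ℕ, (b * x) ^ k = b ^ k * u ^ k.choose 2 * x ^ k := by
    intro k
    induction k with
    | zero => simp
    | succ k ih =>
      calc (b * x) ^ (k + 1) = b ^ k * u ^ k.choose 2 * (x ^ k * b) * x := by
            rw [pow_succ, ih]; simp only [mul_assoc]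
        _ = b ^ k * (u ^ k.choose 2 * u ^ k * b) * (x ^ k * x) := by rw [hk]; simp only [mul_assoc]
        _ = b ^ k * (b * u ^ (k.choose 2 + k)) * (x ^ k * x) := by
            rw [← pow_add, (hbu.pow_right _).eq]
        _ = b ^ (k + 1) * u ^ (k + 1).choose 2 * x ^ (k + 1) := by
            rw [pow_succ b, pow_succ x,
              show (k + 1).choose 2 = k.choose 2 + k by
                rw [Nat.choose_succ_succ, Nat.choose_one_right, add_comm]]
            simp only [mul_assoc]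
  have hup : u ^ p.choose 2 = 1 := by
    obtain ⟨c, hc⟩ := hp.out.dvd_choose_self (k := 2) two_ne_zero (lt_of_le_of_ne hp.out.two_le (Ne.symm hp2))
    rw [hc, ← hi, ← zpow_natCast, ← zpow_mul, Nat.cast_mul, ← mul_assoc, mul_comm i, mul_assoc,
      zpow_mul, zpow_natCast, hzp, one_zpow]
  have := hpow p
  rw [hbx, hup, mul_one, hx, mul_one] at this
  exact this.symm

/-- Double counting when each point is fixed by an element of `X`. -/
theorem count_le (X : Finset (MulAut V)) (B : Subgroup (MulAut V)) (z : MulAut V) (N : ℕ)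
    (T : Finset (MulAut V ⧸ B)) (hzp : z ^ p = 1) (hTN : T.card ≤ N)
    (hXT : ∀ x ∈ X, (x : MulAut V ⧸ B) ∈ T)
    (hXp : ∀ x ∈ X, x ^ p = 1) (hXpow : ∀ x ∈ X, ∀ j, 1 ≤ j → j < p → x ^ j ∈ X)
    (hX1 : ∀ x ∈ X, x ≠ 1)
    (hfib : ∀ x ∈ X, ∀ y ∈ X, (x : MulAut V ⧸ B) = y → y * x⁻¹ ∈ Subgroup.zpowers z)
    (hfix : ∀ x ∈ X, Nat.card (fixPts ({x} : Set (MulAut V))) ^ p ≤ Nat.card V)
    (hV : Nontrivial V) (hcov : ∀ v : V, v ≠ 1 → ∃ x ∈ X, x v = v) :
    ∃ u, 2 ≤ u ∧ u ^ p ≤ Nat.card V ∧ (p - 1) * (Nat.card V - 1) ≤ p * N * (u - 1) := by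
  classical
  have := Fintype.ofFinite V
  obtain ⟨v₀, hv₀⟩ := exists_ne (1 : V)
  obtain ⟨x₀, hx₀, hx₀v⟩ := hcov v₀ hv₀
  let F : MulAut V → Finset V := fun x => (Finset.univ.erase 1).filter fun v => x v = v
  obtain ⟨x₁, hx₁, hmax⟩ := X.exists_max_image (fun x => (F x).card) ⟨x₀, hx₀⟩
  have hFcard : ∀ x, (F x).card + 1 = Nat.card (fixPts ({x} : Set (MulAut V))) := by
    intro x
    have e : (F x) = (Finset.univ.filter fun v => x v = v).erase 1 := by
      ext v; simp [F, and_comm]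
    rw [e, Finset.card_erase_add_one (by simp), ← Fintype.card_subtype, ← Nat.card_eq_fintype_card]
    exact Nat.card_congr (Equiv.subtypeEquivRight fun v => mem_fixPts_one.symm)
  refine ⟨(F x₁).card + 1, ?_, hFcard x₁ ▸ hfix x₁ hx₁, ?_⟩
  · have : v₀ ∈ F x₀ := Finset.mem_filter.mpr ⟨Finset.mem_erase.mpr ⟨hv₀, Finset.mem_univ _⟩, hx₀v⟩
    have h1 := Finset.card_pos.mpr ⟨v₀, this⟩
    have h2 : (F x₀).card ≤ (F x₁).card := hmax x₀ hx₀
    omega
  have hXcard : X.card ≤ p * N := by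
    refine (Finset.card_le_mul_card_image (f := fun x : MulAut V => (x : MulAut V ⧸ B)) X p
      fun q hq => ?_).trans (Nat.mul_le_mul_left p ((Finset.card_le_card ?_).trans hTN))
    · obtain ⟨x, hx, rfl⟩ := Finset.mem_image.mp hq
      have hzc : (Finset.univ : Finset (Fin p)).card = p := by simp
      refine le_trans (Finset.card_le_card (t := (Finset.univ : Finset (Fin p)).image
        fun i : Fin p => z ^ (i : ℕ) * x) ?_) (Finset.card_image_le.trans hzc.le)
      intro y hy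
      obtain ⟨hyX, hyq⟩ := Finset.mem_filter.mp hy
      obtain ⟨i, hi⟩ := mem_powers_iff_mem_zpowers.mpr (hfib x hx y hyX hyq.symm)
      refine Finset.mem_image.mpr ⟨⟨i % p, Nat.mod_lt _ hp.out.pos⟩, Finset.mem_univ _, ?_⟩
      show z ^ (i % p) * x = y
      rw [← pow_eq_pow_mod i hzp, show z ^ i = y * x⁻¹ from hi, inv_mul_cancel_right]
    · intro q hq
      obtain ⟨x, hx, rfl⟩ := Finset.mem_image.mp hq
      exact hXT x hx
  have hsum : ∑ v ∈ Finset.univ.erase (1 : V), (X.filter fun x => x v = v).card =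
      ∑ x ∈ X, (F x).card := by
    simp only [F, Finset.card_filter]
    exact Finset.sum_comm
  have hlow : (p - 1) * (Nat.card V - 1) ≤
      ∑ v ∈ Finset.univ.erase (1 : V), (X.filter fun x => x v = v).card := by
    have e : Nat.card V - 1 = (Finset.univ.erase (1 : V)).card := by
      rw [Finset.card_erase_of_mem (Finset.mem_univ _), Finset.card_univ, Nat.card_eq_fintype_card]
    rw [e, mul_comm, ← smul_eq_mul]
    refine Finset.card_nsmul_le_sum _ _ _ fun v hv => ?_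
    obtain ⟨x, hx, hxv⟩ := hcov v (Finset.mem_erase.mp hv).1
    have hxo : orderOf x = p := orderOf_eq_prime (hXp x hx) (hX1 x hx)
    have hsub : (Finset.Ico 1 p).image (fun j => x ^ j) ⊆ X.filter fun x => x v = v := by
      intro y hy
      obtain ⟨j, hj, rfl⟩ := Finset.mem_image.mp hy
      rw [Finset.mem_Ico] at hj
      refine Finset.mem_filter.mpr ⟨hXpow x hx j hj.1 hj.2, ?_⟩
      clear hj hy
      induction j with
      | zero => simp
      | succ j ih => rw [pow_succ, MulAut.mul_apply, hxv, ih]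
    have := Finset.card_le_card hsub
    rw [Finset.card_image_of_injOn, Nat.card_Ico] at this
    · exact this
    · intro i hi j hj e
      rw [Finset.coe_Ico, Set.mem_Ico] at hi hj
      exact pow_injOn_Iio_orderOf (by rw [hxo]; exact hi.2) (by rw [hxo]; exact hj.2) e
  calc (p - 1) * (Nat.card V - 1) ≤ ∑ x ∈ X, (F x).card := hsum ▸ hlow
    _ ≤ X.card * (F x₁).card := by
        rw [← smul_eq_mul]; exact Finset.sum_le_card_nsmul _ _ _ hmax
    _ ≤ p * N * ((F x₁).card + 1 - 1) := by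
        rw [Nat.add_sub_cancel]; exact Nat.mul_le_mul_right _ hXcard

/-- The primitive case of the orbit theorem. -/
theorem primitive_case (hp2 : p ≠ 2) (hcop : (Nat.card V).Coprime p) {H P : Subgroup (MulAut V)}
    (hPH : P ≤ H) (hnorm : ∀ h ∈ H, ∀ x ∈ P, h * x * h⁻¹ ∈ P) (hP : IsPGroup p P)
    (hirr : ∀ U : Subgroup V, (∀ h ∈ H, ∀ u ∈ U, h u ∈ U) → U = ⊥ ∨ U = ⊤)
    (hsmall : ∀ B : Subgroup (MulAut V), B ≤ P → (∀ h ∈ H, ∀ x ∈ B, h * x * h⁻¹ ∈ B) →
      (∀ x ∈ B, ∀ y ∈ B, Commute x y) → (∀ x ∈ B, x ^ p = 1) → Nat.card B ≤ p)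
    {a : MulAut V} (haP : a ∈ P) (hap : a ^ p = 1) (ha1 : a ≠ 1) :
    ∃ v : V, ∀ h ∈ H, (h * a * h⁻¹) v ≠ v := by
  classical
  by_contra hall
  push Not at hall
  have hV : Nontrivial V := by
    by_contra h
    rw [not_nontrivial_iff_subsingleton] at h
    exact ha1 (MulEquiv.ext fun v => Subsingleton.elim _ _)
  obtain ⟨B, C, z, hz1, hcyc, hBn, hΩ, hcore, hC, hZC⟩ :=
    exists_kernel hPH hnorm hP hp2 (fun e => ha1 (Subgroup.mem_bot.mp (e ▸ haP))) hsmall hirr
  have hBP : B ≤ P := fun b hb => ((hC b).mp (hcore.le hb)).1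
  have hBc : ∀ b ∈ B, ∀ b' ∈ B, Commute b b' := fun b hb b' hb' =>
    hcore.central b hb b' (hcore.le hb')
  have hCn : ∀ h ∈ H, ∀ x ∈ C, h * x * h⁻¹ ∈ C := by
    intro h hh x hx
    refine (hC _).mpr ⟨hnorm h hh x ((hC x).mp hx).1, fun b hb => ?_⟩
    have h1 := hBn h⁻¹ (H.inv_mem hh) b hb
    rw [inv_inv] at h1
    have h2 := ((hC x).mp hx).2 _ h1
    show b * (h * x * h⁻¹) = h * x * h⁻¹ * b
    calc b * (h * x * h⁻¹) = h * ((h⁻¹ * b * h) * x) * h⁻¹ := by group
      _ = h * (x * (h⁻¹ * b * h)) * h⁻¹ := by rw [h2.eq]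
      _ = _ := by group
  have hback : ∀ (S : Subgroup (MulAut V)), (∀ h ∈ H, ∀ x ∈ S, h * x * h⁻¹ ∈ S) →
      ∀ h ∈ H, ∀ x, h * x * h⁻¹ ∈ S → x ∈ S := by
    intro S hS h hh x hx
    have := hS h⁻¹ (H.inv_mem hh) _ hx
    rwa [show h⁻¹ * (h * x * h⁻¹) * h⁻¹⁻¹ = x by group] at this
  have hsocle : ∀ x ∈ P, x ^ p = 1 → Commute x z ∧ ∀ b ∈ B, ⁅x, b⁆ ∈ Subgroup.zpowers z :=
    fun x hx hxp => comm_mem_socle hp2 (hP.to_le hBP) hcore.zmem hcore.zpow hΩ
      (fun b hb => hBn x (hPH hx) b hb) hxp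
  -- the index of `B` in `C`
  obtain ⟨k, hk1, hk2⟩ := hcore.grow hp2 hcop (Nat.card C) C le_rfl hcore.le le_rfl ⊤ top_ne_bot
    (fun _ _ _ _ => Subgroup.mem_top _)
  rw [show C ⊓ Subgroup.centralizer (C : Set (MulAut V)) = B from le_antisymm
    (fun c hc => hZC c hc.1 fun d hd => (Subgroup.mem_centralizer_iff.mp hc.2 d hd).symm)
    (fun b hb => ⟨hcore.le hb, Subgroup.mem_centralizer_iff.mpr fun d hd =>
      (hcore.central b hb d hd).symm.eq⟩)] at hk1
  rw [Subgroup.card_top] at hk2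
  set M := B.relIndex C with hM
  let ι : C ⧸ B.subgroupOf C → MulAut V ⧸ B := Quotient.map' Subtype.val fun a b hab => by
    rw [QuotientGroup.leftRel_apply] at hab ⊢
    exact hab
  have := Fintype.ofFinite (C ⧸ B.subgroupOf C)
  have hMcard : Fintype.card (C ⧸ B.subgroupOf C) = M := by
    rw [← Nat.card_eq_fintype_card]; rfl
  have hzo : orderOf z = p := orderOf_eq_prime hcore.zpow hz1
  -- fibres
  have hfib : ∀ x ∈ P, x ^ p = 1 → ∀ y : MulAut V, y ^ p = 1 → (x : MulAut V ⧸ B) = y →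
      y * x⁻¹ ∈ Subgroup.zpowers z := by
    intro x hx hxp y hyp e
    obtain ⟨hxz, hsoc⟩ := hsocle x hx hxp
    have hb : x⁻¹ * y ∈ B := QuotientGroup.eq.mp e
    set b := x * (x⁻¹ * y) * x⁻¹ with hbdef
    have hbB : b ∈ B := hBn x (hPH hx) _ hb
    have hy : y = b * x := by rw [hbdef]; group
    have : b ^ p = 1 := pow_prime_of_coset hp2 hcore.zpow (hsoc b hbB) hxz
      (hBc b hbB z hcore.zmem) hxp (hy ▸ hyp)
    rw [hy, mul_inv_cancel_right]
    exact hΩ b hbB this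
  by_cases haC : a ∈ C
  · by_cases haB : a ∈ B
    · obtain ⟨v₀, hv₀⟩ := exists_ne (1 : V)
      obtain ⟨h, hh, hhv⟩ := hall v₀
      refine hv₀ (hcore.fpf _ (hBn h hh a haB) (fun e => ha1 ?_) v₀ hhv)
      simpa using e
    let X : Finset (MulAut V) :=
      (Set.toFinite {x : MulAut V | x ∈ C ∧ x ∉ B ∧ x ^ p = 1}).toFinset
    have hXm : ∀ x, x ∈ X ↔ x ∈ C ∧ x ∉ B ∧ x ^ p = 1 := fun x => Set.Finite.mem_toFinset _
    let T : Finset (MulAut V ⧸ B) :=
      (Finset.univ.erase ((1 : C) : C ⧸ B.subgroupOf C)).image ι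
    obtain ⟨u, hu2, hus, hcount⟩ := count_le X B z (M - 1) T hcore.zpow
      (Finset.card_image_le.trans (by
        rw [Finset.card_erase_of_mem (Finset.mem_univ _), Finset.card_univ, hMcard]))
      (fun x hx => by
        obtain ⟨h1, h2, -⟩ := (hXm x).mp hx
        refine Finset.mem_image.mpr ⟨((⟨x, h1⟩ : C) : C ⧸ B.subgroupOf C),
          Finset.mem_erase.mpr ⟨fun e => h2 ?_, Finset.mem_univ _⟩, rfl⟩
        have h := Subgroup.mem_subgroupOf.mp (QuotientGroup.eq.mp e)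
        simpa using h)
      (fun x hx => ((hXm x).mp hx).2.2)
      (fun x hx j hj1 hjp => by
        obtain ⟨h1, h2, h3⟩ := (hXm x).mp hx
        refine (hXm _).mpr ⟨C.pow_mem h1 j, fun hj => h2 ?_,
          by rw [← pow_mul, mul_comm, pow_mul, h3, one_pow]⟩
        have hcp : Nat.Coprime j (orderOf x) := by
          refine Nat.Coprime.coprime_dvd_right (orderOf_dvd_of_pow_eq_one h3) ?_
          exact ((hp.out.coprime_iff_not_dvd.mpr
            (Nat.not_dvd_of_pos_of_lt (by omega) hjp))).symm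
        obtain ⟨i, hi⟩ := exists_pow_eq_self_of_coprime hcp
        rw [← hi]
        exact B.pow_mem hj i)
      (fun x hx e => ((hXm x).mp hx).2.1 (e ▸ B.one_mem))
      (fun x hx y hy e => hfib x ((hC x).mp ((hXm x).mp hx).1).1 ((hXm x).mp hx).2.2 y
        ((hXm y).mp hy).2.2 e)
      (fun x hx => by
        obtain ⟨h1, h2, h3⟩ := (hXm x).mp hx
        obtain ⟨y, hyC, hxy⟩ : ∃ y ∈ C, ¬ Commute x y := by
          by_contra hc
          push Not at hc
          exact h2 (hZC x h1 hc)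
        have hw := hcore.comm _ (C.inv_mem h1) y hyC
        have hwB : ⁅x⁻¹, y⁆ ∈ B := Subgroup.zpowers_le.mpr hcore.zmem hw
        have hfix := pow_fix_le hcop (x := x) (y := y) (w := ⁅x⁻¹, y⁆) (N := 1) (U := ⊤)
          (by rw [pow_one, h3]) (by simp only [commutatorElement_def]; group)
          (hcore.central _ hwB x h1).symm (hcore.central _ hwB y hyC).symm
          (by
            obtain ⟨i, hi⟩ := Subgroup.mem_zpowers_iff.mp hw
            rw [← hi, ← zpow_natCast, ← zpow_mul, mul_comm, zpow_mul, zpow_natCast, hcore.zpow,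
              one_zpow])
          (fun u _ => hcore.fpf _ hwB
            (fun e => hxy (by simpa using (commutatorElement_eq_one_iff_commute.mp e).inv_left)) u)
          (fun _ _ => Subgroup.mem_top _) (fun _ _ => Subgroup.mem_top _)
        rwa [top_inf_eq, Subgroup.card_top] at hfix)
      hV (fun v _ => by
        obtain ⟨h, hh, hhv⟩ := hall v
        exact ⟨h * a * h⁻¹, (hXm _).mpr ⟨hCn h hh a haC, fun hb => haB (hback B hBn h hh a hb),
          by rw [conj_pow, hap, mul_one, mul_inv_cancel]⟩, hhv⟩)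
    have hk : 1 ≤ k := by
      by_contra hk0
      rw [show k = 0 by omega, mul_zero, pow_zero] at hk1
      have hM0 : M ≠ 0 := Subgroup.index_ne_zero_of_finite
      exact haB (Subgroup.relIndex_eq_one.mp (by omega : M = 1) haC)
    refine central_count hp.out hp2 hk hk1 (le_trans (Nat.pow_le_pow_left ?_ _) hk2) (by omega) hus
      hcount
    have : p ≤ Nat.card B := by
      rw [← hzo, ← Nat.card_zpowers]
      exact Subgroup.card_le_of_le (Subgroup.zpowers_le.mpr hcore.zmem)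
    omega
  · obtain ⟨b₀, hb₀B, hab₀⟩ : ∃ b ∈ B, ¬ Commute b a := by
      by_contra hc
      push Not at hc
      exact haC ((hC a).mpr ⟨haP, hc⟩)
    obtain ⟨haz, hasoc⟩ := hsocle a haP hap
    set w₀ := ⁅a, b₀⁆ with hw₀
    have hw₀1 : w₀ ≠ 1 := fun e => hab₀ (commutatorElement_eq_one_iff_commute.mp e).symm
    -- every element of order `p` lies in some `a ^ i C`
    have hdecomp : ∀ x ∈ P, x ^ p = 1 → ∃ i : ℕ, i < p ∧ (a ^ i)⁻¹ * x ∈ C := by
      intro x hx hxp
      obtain ⟨-, hxsoc⟩ := hsocle x hx hxp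
      obtain ⟨g, hg⟩ := hcyc.exists_generator
      have hag : ⁅a, (g : MulAut V)⁆ ≠ 1 := by
        intro e
        have hc := commutatorElement_eq_one_iff_commute.mp e
        obtain ⟨j, hj⟩ := Subgroup.mem_zpowers_iff.mp (hg ⟨b₀, hb₀B⟩)
        refine hab₀ ?_
        have e2 : b₀ = (g : MulAut V) ^ j := by rw [← Subgroup.coe_zpow, hj]
        rw [e2]
        exact (hc.symm.zpow_left j)
      have hgen : Subgroup.zpowers ⁅a, (g : MulAut V)⁆ = Subgroup.zpowers z := by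
        refine Subgroup.eq_of_le_of_card_ge (Subgroup.zpowers_le.mpr (hasoc g g.2)) ?_
        rw [Nat.card_zpowers, Nat.card_zpowers, hzo]
        obtain ⟨i, hi⟩ := Subgroup.mem_zpowers_iff.mp (hasoc g g.2)
        refine (((Nat.dvd_prime hp.out).mp (orderOf_dvd_of_pow_eq_one (x := ⁅a, (g : MulAut V)⁆)
          (n := p) ?_)).resolve_left fun e => hag (orderOf_eq_one_iff.mp e)).ge
        rw [← hi, ← zpow_natCast, ← zpow_mul, mul_comm, zpow_mul, zpow_natCast, hcore.zpow, one_zpow]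
      obtain ⟨i₀, hi₀⟩ := mem_powers_iff_mem_zpowers.mpr (hgen.symm ▸ hxsoc g g.2 :
        ⁅x, (g : MulAut V)⁆ ∈ Subgroup.zpowers ⁅a, (g : MulAut V)⁆)
      set wg := ⁅a, (g : MulAut V)⁆ with hwg
      have hwgz : wg ∈ Subgroup.zpowers z := hasoc g g.2
      have hwgp : wg ^ p = 1 := by
        obtain ⟨i, hi⟩ := Subgroup.mem_zpowers_iff.mp hwgz
        rw [← hi, ← zpow_natCast, ← zpow_mul, mul_comm, zpow_mul, zpow_natCast, hcore.zpow, one_zpow]
      refine ⟨i₀ % p, Nat.mod_lt _ hp.out.pos, ?_⟩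
      have hawg : Commute a wg := by
        obtain ⟨i, hi⟩ := Subgroup.mem_zpowers_iff.mp hwgz
        exact hi ▸ haz.zpow_right i
      have hag' : ∀ n : ℕ, a ^ n * g * (a ^ n)⁻¹ = wg ^ n * g := by
        intro n
        induction n with
        | zero => simp
        | succ n ih =>
          calc a ^ (n + 1) * g * (a ^ (n + 1))⁻¹ = a * (a ^ n * g * (a ^ n)⁻¹) * a⁻¹ := by
                rw [pow_succ']; group
            _ = a * wg ^ n * (a⁻¹ * (a * g * a⁻¹)) := by rw [ih]; group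
            _ = wg ^ n * (a * g * a⁻¹) := by rw [(hawg.pow_right n).eq]; group
            _ = wg ^ (n + 1) * g := by
                rw [pow_succ, hwg, commutatorElement_def]; group
      have hxg : x * g * x⁻¹ = wg ^ (i₀ % p) * g := by
        rw [← pow_eq_pow_mod i₀ hwgp, show wg ^ i₀ = _ from hi₀, commutatorElement_def]; group
      have hcg : Commute ((a ^ (i₀ % p))⁻¹ * x) (g : MulAut V) := by
        have h1 : x * g * x⁻¹ = a ^ (i₀ % p) * g * (a ^ (i₀ % p))⁻¹ := by rw [hag', hxg]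
        show _ = _
        calc (a ^ (i₀ % p))⁻¹ * x * g = (a ^ (i₀ % p))⁻¹ * (x * g * x⁻¹) * x := by group
          _ = _ := by rw [h1]; group
      refine (hC _).mpr ⟨P.mul_mem (P.inv_mem (P.pow_mem haP _)) hx, fun b hb => ?_⟩
      obtain ⟨j, hj⟩ := Subgroup.mem_zpowers_iff.mp (hg ⟨b, hb⟩)
      have e2 : b = (g : MulAut V) ^ j := by rw [← Subgroup.coe_zpow, hj]
      rw [e2]
      exact (hcg.zpow_right j).symm
    let X : Finset (MulAut V) :=
      (Set.toFinite {x : MulAut V | x ∈ P ∧ x ∉ C ∧ x ^ p = 1}).toFinset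
    have hXm : ∀ x, x ∈ X ↔ x ∈ P ∧ x ∉ C ∧ x ^ p = 1 := fun x => Set.Finite.mem_toFinset _
    let T : Finset (MulAut V ⧸ B) :=
      ((Finset.Ico 1 p) ×ˢ (Finset.univ : Finset (C ⧸ B.subgroupOf C))).image
        fun t => (a ^ t.1) • ι t.2
    obtain ⟨u, hu2, hus, hcount⟩ := count_le X B z ((p - 1) * M) T hcore.zpow
      (Finset.card_image_le.trans (by
        rw [Finset.card_product, Finset.card_univ, hMcard, Nat.card_Ico]))
      (fun x hx => by
        obtain ⟨h1, h2, h3⟩ := (hXm x).mp hx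
        obtain ⟨i, hip, hi⟩ := hdecomp x h1 h3
        refine Finset.mem_image.mpr ⟨(i, ((⟨_, hi⟩ : C) : C ⧸ B.subgroupOf C)),
          Finset.mem_product.mpr ⟨Finset.mem_Ico.mpr ⟨?_, hip⟩, Finset.mem_univ _⟩, ?_⟩
        · rcases Nat.eq_zero_or_pos i with rfl | h
          · rw [pow_zero, inv_one, one_mul] at hi; exact absurd hi h2
          · exact h
        · show a ^ i • (((a ^ i)⁻¹ * x : MulAut V) : MulAut V ⧸ B) = (x : MulAut V ⧸ B)
          rw [MulAction.Quotient.smul_coe, smul_eq_mul, mul_inv_cancel_left])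
      (fun x hx => ((hXm x).mp hx).2.2)
      (fun x hx j hj1 hjp => by
        obtain ⟨h1, h2, h3⟩ := (hXm x).mp hx
        refine (hXm _).mpr ⟨P.pow_mem h1 j, fun hj => h2 ?_,
          by rw [← pow_mul, mul_comm, pow_mul, h3, one_pow]⟩
        have hcp : Nat.Coprime j (orderOf x) := by
          refine Nat.Coprime.coprime_dvd_right (orderOf_dvd_of_pow_eq_one h3) ?_
          exact ((hp.out.coprime_iff_not_dvd.mpr
            (Nat.not_dvd_of_pos_of_lt (by omega) hjp))).symm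
        obtain ⟨i, hi⟩ := exists_pow_eq_self_of_coprime hcp
        rw [← hi]
        exact C.pow_mem hj i)
      (fun x hx e => ((hXm x).mp hx).2.1 (e ▸ C.one_mem))
      (fun x hx y hy e => hfib x ((hXm x).mp hx).1 ((hXm x).mp hx).2.2 y ((hXm y).mp hy).2.2 e)
      (fun x hx => by
        obtain ⟨h1, h2, h3⟩ := (hXm x).mp hx
        obtain ⟨b, hb, hxb⟩ : ∃ b ∈ B, ¬ Commute b x := by
          by_contra hc
          push Not at hc
          exact h2 ((hC x).mpr ⟨h1, hc⟩)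
        obtain ⟨hxz, hxsoc⟩ := hsocle x⁻¹ (P.inv_mem h1) (by rw [inv_pow, h3, inv_one])
        obtain ⟨i, hi⟩ := Subgroup.mem_zpowers_iff.mp (hxsoc b hb)
        have hwB : ⁅x⁻¹, b⁆ ∈ B := Subgroup.zpowers_le.mpr hcore.zmem (hxsoc b hb)
        have hfix := pow_fix_le hcop (x := x) (y := b) (w := ⁅x⁻¹, b⁆) (N := 1) (U := ⊤)
          (by rw [pow_one, h3]) (by simp only [commutatorElement_def]; group)
          (hi ▸ (by simpa using hxz.inv_left : Commute x z).zpow_right i)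
          (hBc b hb _ hwB)
          (by rw [← hi, ← zpow_natCast, ← zpow_mul, mul_comm, zpow_mul, zpow_natCast, hcore.zpow,
            one_zpow])
          (fun u _ => hcore.fpf _ hwB
            (fun e => hxb (by simpa using (commutatorElement_eq_one_iff_commute.mp e).inv_left.symm)) u)
          (fun _ _ => Subgroup.mem_top _) (fun _ _ => Subgroup.mem_top _)
        rwa [top_inf_eq, Subgroup.card_top] at hfix)
      hV (fun v _ => by
        obtain ⟨h, hh, hhv⟩ := hall v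
        exact ⟨h * a * h⁻¹, (hXm _).mpr ⟨hnorm h hh a haP,
          fun hc => haC (hback C hCn h hh a hc),
          by rw [conj_pow, hap, mul_one, mul_inv_cancel]⟩, hhv⟩)
    have hBcard : p ^ 2 ≤ Nat.card B := by
      obtain ⟨n, hn⟩ := IsPGroup.iff_card.mp (hP.to_le hBP)
      rw [hn]
      refine Nat.pow_le_pow_right hp.out.pos ?_
      by_contra hn2
      have hle : Nat.card B ≤ Nat.card (Subgroup.zpowers z) := by
        rw [Nat.card_zpowers, hzo, hn]
        calc p ^ n ≤ p ^ 1 := Nat.pow_le_pow_right hp.out.pos (by omega)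
          _ = p := pow_one p
      have he := Subgroup.eq_of_le_of_card_ge (Subgroup.zpowers_le.mpr hcore.zmem) hle
      obtain ⟨j, hj⟩ := Subgroup.mem_zpowers_iff.mp (he.symm ▸ hb₀B : b₀ ∈ Subgroup.zpowers z)
      exact hab₀ (hj ▸ (haz.zpow_right j).symm)
    exact semilinear_count hp.out hp2 hk1
      (le_trans (Nat.pow_le_pow_left (by omega) _) hk2) hu2 hus hcount

end Cfsg.Agent.Lib.RegularVector
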