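import Cfsg.Agent.Lib.RegularVector.BlockColoring
import Cfsg.Agent.Lib.RegularVector.Primitive

/-!
An odd `p`-group acting coprimely has a vector fixed by no conjugate of a given element of order `p`.
-/

set_option autoImplicit false
set_option linter.unusedSectionVars false
set_option linter.style.haveILetI false

namespace Cfsg.Agent.Lib.RegularVector

universe u

/-- The statement proved by induction. -/
def Moved (p n : ℕ) : Prop :=
  ∀ (V : Type u) [CommGroup V] [Finite V], Nat.card V ≤ n → (Nat.card V).Coprime p →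
    ∀ (H P : Subgroup (MulAut V)), P ≤ H → (∀ h ∈ H, ∀ x ∈ P, h * x * h⁻¹ ∈ P) → IsPGroup p P →
      ∀ a ∈ P, a ^ p = 1 → a ≠ 1 → ∃ v : V, ∀ h ∈ H, (h * a * h⁻¹) v ≠ v

variable {V : Type u} [CommGroup V] [Finite V] {p n : ℕ} [hp : Fact p.Prime]

theorem descend (ih : Moved.{u} p n) {H P : Subgroup (MulAut V)}
    (hnorm : ∀ h ∈ H, ∀ x ∈ P, h * x * h⁻¹ ∈ P) (hP : IsPGroup p P) {a : MulAut V} (hap : a ^ p = 1)
    {S : Subgroup (MulAut V)} (hSH : S ≤ H) (haS : a ∈ S) (haP : a ∈ P) {W : Type u} [CommGroup W]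
    [Finite W] (hW : Nat.card W ≤ n) (hcopW : (Nat.card W).Coprime p) (f : S →* MulAut W)
    (hfa : f ⟨a, haS⟩ ≠ 1) :
    ∃ w : W, ∀ (h : MulAut V) (hh : h ∈ S),
      f ⟨h * a * h⁻¹, S.mul_mem (S.mul_mem hh haS) (S.inv_mem hh)⟩ w ≠ w := by
  set P' := ((P.subgroupOf S).map f) with hP'
  have hP'p : IsPGroup p P' := by
    refine IsPGroup.map ?_ f
    exact hP.comap_of_injective S.subtype S.subtype_injective
  obtain ⟨w, hw⟩ := ih W hW hcopW f.range P' (Subgroup.map_le_range f _)
    (by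
      rintro _ ⟨h, rfl⟩ _ ⟨x, hx, rfl⟩
      exact ⟨h * x * h⁻¹, hnorm _ (hSH h.2) _ hx, by simp⟩)
    hP'p (f ⟨a, haS⟩) ⟨⟨a, haS⟩, haP, rfl⟩
    (by rw [← map_pow, show (⟨a, haS⟩ : S) ^ p = 1 from Subtype.ext hap, map_one]) hfa
  refine ⟨w, fun h hh => ?_⟩
  have h1 := hw (f ⟨h, hh⟩) ⟨_, rfl⟩
  rw [← map_inv, ← map_mul, ← map_mul] at h1
  exact h1

/-- The map induced on the quotient by an invariant subgroup. -/
noncomputable def quotAct (U : Subgroup V) (H : Subgroup (MulAut V)) (hU : ∀ h ∈ H, ∀ u ∈ U, h u ∈ U) :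
    H →* MulAut (V ⧸ U) where
  toFun h := QuotientGroup.congr U U (h : MulAut V)
    (Subgroup.eq_of_le_of_card_ge (Subgroup.map_le_iff_le_comap.mpr fun u hu => hU h h.2 u hu)
      (Subgroup.card_map_of_injective (h : MulAut V).injective).ge)
  map_one' := by
    ext x
    induction x using QuotientGroup.induction_on with | _ v => ?_
    simp
  map_mul' g h := by
    ext x
    induction x using QuotientGroup.induction_on with | _ v => ?_
    simp

theorem quotAct_mk (U : Subgroup V) (H : Subgroup (MulAut V)) (hU : ∀ h ∈ H, ∀ u ∈ U, h u ∈ U)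
    (h : H) (v : V) : quotAct U H hU h (v : V ⧸ U) = (((h : MulAut V) v : V) : V ⧸ U) := by
  simp [quotAct]

/-- The fixed points of the hyperplanes generate. -/
theorem generated_by_hyperplanes (hcop : (Nat.card V).Coprime p) {B : Subgroup (MulAut V)}
    (_hB : IsPGroup p B) (hc : ∀ x ∈ B, ∀ y ∈ B, Commute x y) (hx : ∀ x ∈ B, x ^ p = 1)
    {T : Subgroup V} (h0 : fixPts (B : Set (MulAut V)) ≤ T)
    (h1 : ∀ K : Subgroup (MulAut V), K ≤ B → K.relIndex B = p → fixPts (K : Set (MulAut V)) ≤ T) :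
    T = ⊤ := by
  suffices key : ∀ (d : ℕ) (M : Subgroup (MulAut V)), M ≤ B → Nat.card B ≤ Nat.card M + d →
      fixPts (M : Set (MulAut V)) ≤ T by
    refine eq_top_iff.mpr fun v _ => key (Nat.card B) ⊥ bot_le (by omega) ?_
    intro x hx'
    rw [SetLike.mem_coe, Subgroup.mem_bot] at hx'
    rw [hx']; rfl
  intro d
  induction d with
  | zero =>
    intro M hMB hcard
    rw [Subgroup.eq_of_le_of_card_ge hMB (by omega)]
    exact h0
  | succ d ih =>
    intro M hMB hcard
    by_cases hMe : M = B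
    · rw [hMe]; exact h0
    by_cases hidx : M.relIndex B = p
    · exact h1 M hMB hidx
    obtain ⟨c, hcB, hcM⟩ := SetLike.not_le_iff_exists.mp fun h => hMe (le_antisymm hMB h)
    -- `M ⊔ ⟨c⟩` is still proper
    have hne : ∃ b ∈ B, b ∉ M ⊔ Subgroup.zpowers c := by
      by_contra hno
      push Not at hno
      refine hidx ?_
      have hle : (Subgroup.zpowers c).subgroupOf B ⊔ M.subgroupOf B = ⊤ := by
        rw [eq_top_iff]
        intro x _
        rw [sup_comm, ← Subgroup.subgroupOf_sup hMB (Subgroup.zpowers_le.mpr hcB),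
          Subgroup.mem_subgroupOf]
        exact hno x x.2
      have hn : (M.subgroupOf B).Normal := ⟨fun m hm g => by
        rw [Subgroup.mem_subgroupOf] at hm ⊢
        rw [Subgroup.coe_mul, Subgroup.coe_mul, Subgroup.coe_inv, (hc g g.2 m (hMB hm)).eq,
          mul_inv_cancel_right]
        exact hm⟩
      set q : B ⧸ M.subgroupOf B := ((⟨c, hcB⟩ : B) : B ⧸ M.subgroupOf B) with hq
      have hgen : Subgroup.zpowers q = ⊤ := by
        rw [eq_top_iff]
        intro y _
        induction y using QuotientGroup.induction_on with | _ y => ?_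
        obtain ⟨s, hs, t, ht, rfl⟩ := Subgroup.mem_sup_of_normal_right.mp
          (hle ▸ Subgroup.mem_top y : y ∈ (Subgroup.zpowers c).subgroupOf B ⊔ M.subgroupOf B)
        rw [Subgroup.mem_subgroupOf] at hs
        obtain ⟨i, hi⟩ := Subgroup.mem_zpowers_iff.mp hs
        refine Subgroup.mem_zpowers_iff.mpr ⟨i, ?_⟩
        rw [hq, ← QuotientGroup.mk_zpow, QuotientGroup.mk_mul,
          (QuotientGroup.eq_one_iff t).mpr ht, mul_one]
        congr 1
        exact Subtype.ext (by rw [Subgroup.coe_zpow]; exact hi)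
      have hqp : q ^ p = 1 := by
        rw [hq, ← QuotientGroup.mk_pow, show (⟨c, hcB⟩ : B) ^ p = 1 from Subtype.ext (hx c hcB)]
        rfl
      have hqne : q ≠ 1 := fun e =>
        hcM (Subgroup.mem_subgroupOf.mp ((QuotientGroup.eq_one_iff _).mp e))
      rw [Subgroup.relIndex, Subgroup.index_eq_card, ← Subgroup.card_top (G := B ⧸ M.subgroupOf B),
        ← hgen, Nat.card_zpowers]
      exact orderOf_eq_prime hqp hqne
    obtain ⟨b, hbB, hbM⟩ := hne
    have hgrow : ∀ e ∈ B, e ∉ M → Nat.card B ≤ Nat.card (M ⊔ Subgroup.zpowers e : Subgroup _) + d := by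
      intro e _ heM
      have hlt : Nat.card M < Nat.card (M ⊔ Subgroup.zpowers e : Subgroup _) := by
        refine lt_of_le_of_ne (Subgroup.card_le_of_le le_sup_left) fun h => heM ?_
        rw [Subgroup.eq_of_le_of_card_ge (le_sup_left : M ≤ M ⊔ Subgroup.zpowers e) h.ge]
        exact Subgroup.mem_sup_right (Subgroup.mem_zpowers e)
      omega
    have hbig : ∀ e ∈ B, e ∉ M → ∀ u ∈ fixPts (M : Set (MulAut V)), e u = u → u ∈ T := by
      intro e he heM u hu heu
      refine ih (M ⊔ Subgroup.zpowers e) (sup_le hMB (Subgroup.zpowers_le.mpr he)) (hgrow e he heM) ?_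
      have hn : M ≤ Subgroup.normalizer ((Subgroup.zpowers e : Subgroup _) : Set (MulAut V)) := by
        refine fun m hm => Subgroup.centralizer_le_normalizer _ (Subgroup.mem_centralizer_iff.mpr ?_)
        intro y hy
        obtain ⟨i, rfl⟩ := Subgroup.mem_zpowers_iff.mp hy
        exact ((hc e he m (hMB hm)).zpow_left i).eq
      intro x hx'
      rw [SetLike.mem_coe, ← SetLike.mem_coe, Subgroup.coe_mul_of_left_le_normalizer_right M
        (Subgroup.zpowers e) hn] at hx'
      obtain ⟨m, hm, y, hy, rfl⟩ := hx'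
      obtain ⟨i, rfl⟩ := mem_powers_iff_mem_zpowers.mpr hy
      show (m * e ^ i) u = u
      rw [MulAut.mul_apply]
      have hei : (e ^ i) u = u := by
        clear hy
        induction i with
        | zero => simp
        | succ i ih => rw [pow_succ, MulAut.mul_apply, heu, ih]
      rw [hei]
      exact hu m hm
    have hpres : ∀ e ∈ B, ∀ u ∈ fixPts (M : Set (MulAut V)), e u ∈ fixPts (M : Set (MulAut V)) := by
      intro e he u hu m hm
      rw [← MulAut.mul_apply, (hc m (hMB hm) e he).eq, MulAut.mul_apply, hu m hm]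
    exact mem_of_lines hcop (hc b hbB c hcB) (hpres b hbB) (hpres c hcB)
      (fun u _ => by rw [hx b hbB]; rfl) (fun u _ => by rw [hx c hcB]; rfl)
      (fun u hu h => hbig c hcB hcM u hu h)
      (fun t u hu h => hbig (b * c ^ t) (B.mul_mem hbB (B.pow_mem hcB t)) (fun hm => hbM (by
        have h1 := Subgroup.mul_mem (M ⊔ Subgroup.zpowers c) (Subgroup.mem_sup_left hm)
          (Subgroup.inv_mem _ (Subgroup.mem_sup_right (Subgroup.pow_mem _ (Subgroup.mem_zpowers c) t)))
        rwa [mul_inv_cancel_right] at h1)) u hu h)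

theorem imprimitive_case (ih : Moved.{u} p n) (hp2 : p ≠ 2) (hn : Nat.card V ≤ n + 1)
    (hcop : (Nat.card V).Coprime p) {H P : Subgroup (MulAut V)} (hPH : P ≤ H)
    (hnorm : ∀ h ∈ H, ∀ x ∈ P, h * x * h⁻¹ ∈ P) (hP : IsPGroup p P)
    (hirr : ∀ U : Subgroup V, (∀ h ∈ H, ∀ u ∈ U, h u ∈ U) → U = ⊥ ∨ U = ⊤)
    {B : Subgroup (MulAut V)} (hBP : B ≤ P) (hBn : ∀ h ∈ H, ∀ x ∈ B, h * x * h⁻¹ ∈ B)
    (hBc : ∀ x ∈ B, ∀ y ∈ B, Commute x y) (hBp : ∀ x ∈ B, x ^ p = 1) (hBcard : p < Nat.card B)
    {a : MulAut V} (haP : a ∈ P) (hap : a ^ p = 1) (ha1 : a ≠ 1) :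
    ∃ v : V, ∀ h ∈ H, (h * a * h⁻¹) v ≠ v := by
  classical
  have hfixinv : ∀ (K : Subgroup (MulAut V)) (x : MulAut V),
      (∀ k ∈ K, x⁻¹ * k * x ∈ K) → ∀ u ∈ fixPts (K : Set (MulAut V)), x u ∈ fixPts (K : Set (MulAut V)) := by
    intro K x hK u hu k hk
    have e : (x⁻¹ * k * x) u = u := hu _ (hK k hk)
    calc k (x u) = x ((x⁻¹ * k * x) u) := by rw [← MulAut.mul_apply, ← MulAut.mul_apply]; congr 1; group
      _ = x u := by rw [e]
  have hB0 : fixPts (B : Set (MulAut V)) = ⊥ := by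
    refine (hirr _ fun h hh u hu => hfixinv B h (fun k hk => ?_) u hu).resolve_right fun e => ?_
    · have := hBn h⁻¹ (H.inv_mem hh) k hk; rwa [inv_inv] at this
    · have : B ≤ ⊥ := fun b hb => Subgroup.mem_bot.mpr (MulEquiv.ext fun v =>
        (e ▸ Subgroup.mem_top v : v ∈ fixPts (B : Set (MulAut V))) b hb)
      rw [le_bot_iff.mp this, Subgroup.card_bot] at hBcard
      have := hp.out.one_lt
      omega
  -- the components
  let c : MulAut V → Subgroup (MulAut V) → Subgroup (MulAut V) :=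
    fun h K => K.map (MulAut.conj h).toMonoidHom
  have hcmem : ∀ h K x, x ∈ c h K ↔ h⁻¹ * x * h ∈ K := by
    intro h K x
    constructor
    · rintro ⟨k, hk, rfl⟩
      simpa [mul_assoc] using hk
    · intro hx
      exact ⟨_, hx, by simp [mul_assoc]⟩
  have hcmul : ∀ g h K, c g (c h K) = c (g * h) K := by
    intro g h K
    ext x
    rw [hcmem, hcmem, hcmem, _root_.mul_inv_rev]
    simp only [mul_assoc]
  have hcone : ∀ K, c 1 K = K := fun K => by ext x; rw [hcmem]; simp
  let Ω : Finset (Subgroup (MulAut V)) := (Set.toFinite {K : Subgroup (MulAut V) |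
    K ≤ B ∧ K.relIndex B = p ∧ fixPts (K : Set (MulAut V)) ≠ ⊥}).toFinset
  have hΩm : ∀ K, K ∈ Ω ↔ K ≤ B ∧ K.relIndex B = p ∧ fixPts (K : Set (MulAut V)) ≠ ⊥ :=
    fun K => Set.Finite.mem_toFinset _
  have hBfix : ∀ h ∈ H, c h B = B := fun h hh =>
    Subgroup.eq_of_le_of_card_ge (fun x hx => by
      rw [hcmem] at hx
      have := hBn h hh _ hx
      rwa [show h * (h⁻¹ * x * h) * h⁻¹ = x by group] at this)
      (Subgroup.card_map_of_injective (MulAut.conj h).injective).ge
  have hΩc : ∀ h ∈ H, ∀ K ∈ Ω, c h K ∈ Ω := by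
    intro h hh K hK
    obtain ⟨h1, h2, h3⟩ := (hΩm K).mp hK
    refine (hΩm _).mpr ⟨hBfix h hh ▸ Subgroup.map_mono h1, ?_, ?_⟩
    · rw [← hBfix h hh]
      show (K.map _).relIndex (B.map _) = p
      rw [Subgroup.relIndex_map_map_of_injective _ _ (MulAut.conj h).injective, h2]
    · intro e
      obtain ⟨u, hu, hu1⟩ := (Subgroup.bot_or_exists_ne_one _).resolve_left h3
      have : h u ∈ fixPts (c h K : Set (MulAut V)) := fun k hk => by
        have h4 := hu _ ((hcmem h K k).mp hk)
        calc k (h u) = h ((h⁻¹ * k * h) u) := by rw [← MulAut.mul_apply, ← MulAut.mul_apply]; congr 1; group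
          _ = h u := by rw [h4]
      rw [e, Subgroup.mem_bot, map_eq_one_iff _ h.injective] at this
      exact hu1 this
  have hKcard : ∀ K : Subgroup (MulAut V), K ≤ B → ∃ j, Nat.card K = p ^ j := fun K hK =>
    IsPGroup.iff_card.mp ((hP.to_le hBP).to_le hK)
  -- distinct components are independent
  have hkill : ∀ K ∈ Ω, ∀ L ∈ Ω, L ≠ K → ∀ v ∈ fixPts (L : Set (MulAut V)), normMap K v = 1 := by
    intro K hK L hL hne v hv
    have hmem : normMap K v ∈ fixPts (B : Set (MulAut V)) := by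
      have hK' := ((hΩm K).mp hK)
      have hL' := ((hΩm L).mp hL)
      have hsub : L ≤ Subgroup.normalizer (K : Set (MulAut V)) := fun l hl =>
        Subgroup.centralizer_le_normalizer _ (Subgroup.mem_centralizer_iff.mpr fun k hk =>
          (hBc k (hK'.1 hk) l (hL'.1 hl)).eq)
      have hsup : L ⊔ K = B := by
        refine Subgroup.eq_of_le_of_card_ge (sup_le hL'.1 hK'.1) ?_
        by_contra hlt
        obtain ⟨e, heL, he⟩ := SetLike.not_le_iff_exists.mp fun h : L ≤ K => hne (by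
          refine Subgroup.eq_of_le_of_card_ge h ?_
          have h1 := ((K.subgroupOf B).card_mul_index)
          have h2 := ((L.subgroupOf B).card_mul_index)
          rw [Nat.card_congr (Subgroup.subgroupOfEquivOfLe hK'.1).toEquiv] at h1
          rw [Nat.card_congr (Subgroup.subgroupOfEquivOfLe hL'.1).toEquiv] at h2
          have e1 : (K.subgroupOf B).index = p := hK'.2.1
          have e2 : (L.subgroupOf B).index = p := hL'.2.1
          rw [e1] at h1; rw [e2, ← h1] at h2
          exact (Nat.eq_of_mul_eq_mul_right hp.out.pos h2).ge)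
        obtain ⟨i, hi⟩ := hKcard K hK'.1
        obtain ⟨j, hj⟩ := hKcard (L ⊔ K) (sup_le hL'.1 hK'.1)
        have hlt' : Nat.card K < Nat.card (L ⊔ K : Subgroup _) := by
          refine lt_of_le_of_ne (Subgroup.card_le_of_le le_sup_right) fun h => he ?_
          rw [Subgroup.eq_of_le_of_card_ge (le_sup_right : K ≤ L ⊔ K) h.ge]
          exact Subgroup.mem_sup_left heL
        have h1 := ((K.subgroupOf B).card_mul_index)
        rw [Nat.card_congr (Subgroup.subgroupOfEquivOfLe hK'.1).toEquiv,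
          show (K.subgroupOf B).index = p from hK'.2.1, hi] at h1
        rw [hi, hj] at hlt'
        rw [hj, ← h1, ← pow_succ] at hlt
        exact hlt (Nat.pow_le_pow_right hp.out.pos
          ((Nat.pow_lt_pow_iff_right hp.out.one_lt).mp hlt'))
      intro b hb
      rw [SetLike.mem_coe, ← hsup, ← SetLike.mem_coe,
        Subgroup.coe_mul_of_left_le_normalizer_right L K hsub] at hb
      obtain ⟨l, hl, k, hk, rfl⟩ := hb
      show (l * k) (normMap K v) = normMap K v
      rw [MulAut.mul_apply, normMap_mem K v k hk, map_normMap K l v, hv l hl]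
      congr 1
      show normMap (K.map (MulAut.conj l).toMonoidHom) = normMap K
      congr 1
      refine Subgroup.eq_of_le_of_card_ge ?_ (Subgroup.card_map_of_injective (MulAut.conj l).injective).ge
      rintro _ ⟨k', hk', rfl⟩
      have := (hBc l (hL'.1 hl) k' (hK'.1 hk')).eq
      simpa [this] using hk'
    rwa [hB0, Subgroup.mem_bot] at hmem
  -- vectors with prescribed components
  have hcoord : ∀ (vv : Subgroup (MulAut V) → V), (∀ K ∈ Ω, vv K ∈ fixPts (K : Set (MulAut V))) →
      ∀ x ∈ H, x (∏ K ∈ Ω, vv K) = ∏ K ∈ Ω, vv K → ∀ K ∈ Ω, x (vv K) = vv (c x K) := by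
    intro vv hvv x hx hfix K hK
    set v := ∏ K ∈ Ω, vv K with hv
    have hproj : ∀ L ∈ Ω, normMap L v = vv L ^ Nat.card L := by
      intro L hL
      rw [hv, map_prod, Finset.prod_eq_single L]
      · exact normMap_of_mem L (hvv L hL)
      · exact fun M hM hne => hkill L hL M hM hne _ (hvv M hM)
      · exact fun h => absurd hL h
    have h1 : x (normMap K v) = normMap (c x K) v := by rw [map_normMap K x v, hfix]
    rw [hproj K hK, hproj _ (hΩc x hx K hK), map_pow] at h1
    obtain ⟨j, hj⟩ := hKcard K ((hΩm K).mp hK).1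
    have hj' : Nat.card (c x K) = p ^ j := by
      rw [← hj]; exact Subgroup.card_map_of_injective (MulAut.conj x).injective
    rw [hj, hj'] at h1
    exact eq_of_pow_eq hcop h1
  by_cases hperm : ∀ K ∈ Ω, c a K = K
  · -- a component on which `a` is nontrivial
    obtain ⟨K₀, hK₀, u₀, hu₀, hau₀⟩ :
        ∃ K₀ ∈ Ω, ∃ u ∈ fixPts (K₀ : Set (MulAut V)), a u ≠ u := by
      by_contra hno
      push Not at hno
      refine ha1 (MulEquiv.ext fun v => ?_)
      have htop : fixPts ({a} : Set (MulAut V)) = ⊤ :=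
        generated_by_hyperplanes hcop (hP.to_le hBP) hBc hBp (hB0 ▸ bot_le) fun K hK hKi u hu => by
          by_cases hbot : fixPts (K : Set (MulAut V)) = ⊥
          · rw [hbot, Subgroup.mem_bot] at hu
            rw [hu]; exact Subgroup.one_mem _
          · exact mem_fixPts_one.mpr (hno K ((hΩm K).mpr ⟨hK, hKi, hbot⟩) u hu)
      exact mem_fixPts_one.mp (htop ▸ Subgroup.mem_top v : v ∈ fixPts ({a} : Set (MulAut V)))
    let S : Subgroup (MulAut V) :=
      { carrier := {h | h ∈ H ∧ c h K₀ = K₀}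
        one_mem' := ⟨H.one_mem, hcone K₀⟩
        mul_mem' := fun {g h} hg hh => ⟨H.mul_mem hg.1 hh.1, by rw [← hcmul, hh.2, hg.2]⟩
        inv_mem' := fun {g} hg => ⟨H.inv_mem hg.1, by
          conv_lhs => rw [← hg.2, hcmul, inv_mul_cancel, hcone]⟩ }
    set U := fixPts (K₀ : Set (MulAut V)) with hU
    have hSU : ∀ x ∈ S, ∀ u ∈ U, x u ∈ U := fun x hx u hu =>
      hfixinv K₀ x (fun k hk => (hcmem x K₀ k).mp (hx.2.symm ▸ hk)) u hu
    have haS : a ∈ S := ⟨hPH haP, hperm K₀ hK₀⟩
    have hUlt : Nat.card U ≤ n := by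
      have hUne : U ≠ ⊤ := by
        intro e
        obtain ⟨hKB, hKi, -⟩ := (hΩm K₀).mp hK₀
        have : K₀ ≤ ⊥ := fun k hk => Subgroup.mem_bot.mpr (MulEquiv.ext fun v =>
          (e ▸ Subgroup.mem_top v : v ∈ U) k hk)
        rw [le_bot_iff.mp this, Subgroup.relIndex_bot_left] at hKi
        omega
      have h1 : Nat.card U < Nat.card V := by
        refine lt_of_le_of_ne (Subgroup.card_le_card_group U) fun e => hUne ?_
        exact Subgroup.eq_top_of_card_eq U e
      omega
    obtain ⟨w, hw⟩ := descend ih hnorm hP hap (S := S) (fun x hx => hx.1) haS haP hUlt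
      (hcop.coprime_dvd_left (Subgroup.card_subgroup_dvd_card U)) (restr U S hSU) (fun e => hau₀ (by
        exact congrArg (fun f : MulAut U => ((f ⟨u₀, hu₀⟩ : U) : V)) e))
    -- transport along the orbit
    let vv : Subgroup (MulAut V) → V := fun K =>
      if h : ∃ g ∈ H, c g K₀ = K then h.choose (w : V) else 1
    have hvv : ∀ K ∈ Ω, vv K ∈ fixPts (K : Set (MulAut V)) := by
      intro K _
      by_cases h : ∃ g ∈ H, c g K₀ = K
      · simp only [vv, dif_pos h]
        intro k hk
        obtain ⟨hgH, hgK⟩ := h.choose_spec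
        set g := h.choose with hg
        have h4 := w.2 _ ((hcmem g K₀ k).mp (hgK.symm ▸ hk))
        calc k (g w) = g ((g⁻¹ * k * g) w) := by rw [← MulAut.mul_apply, ← MulAut.mul_apply]; congr 1; group
          _ = g w := by rw [h4]
      · simp only [vv, dif_neg h]; exact Subgroup.one_mem _
    refine ⟨∏ K ∈ Ω, vv K, fun h hh hfix => ?_⟩
    set x := h * a * h⁻¹ with hx
    have hKm : c h K₀ ∈ Ω := hΩc h hh K₀ hK₀
    have hxK : c x (c h K₀) = c h K₀ := by
      rw [hcmul, hx, inv_mul_cancel_right, ← hcmul, hperm K₀ hK₀]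
    have h1 := hcoord vv hvv x (H.mul_mem (H.mul_mem hh (hPH haP)) (H.inv_mem hh)) hfix _ hKm
    rw [hxK] at h1
    have hex : ∃ g ∈ H, c g K₀ = c h K₀ := ⟨h, hh, rfl⟩
    simp only [vv, dif_pos hex] at h1
    obtain ⟨hgH, hgK⟩ := hex.choose_spec
    set g := hex.choose with hg
    have hsS : g⁻¹ * h ∈ S := ⟨H.mul_mem (H.inv_mem hgH) hh, by
      rw [← hcmul, ← hgK, hcmul, inv_mul_cancel, hcone]⟩
    refine hw (g⁻¹ * h) hsS (Subtype.ext ?_)
    show (g⁻¹ * h * a * (g⁻¹ * h)⁻¹) (w : V) = w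
    have e : g⁻¹ * h * a * (g⁻¹ * h)⁻¹ = g⁻¹ * (x * g) := by rw [hx]; group
    rw [e, MulAut.mul_apply, MulAut.mul_apply, h1, ← MulAut.mul_apply, inv_mul_cancel,
      MulAut.one_apply]
  · -- colour the components
    push Not at hperm
    obtain ⟨K₁, hK₁, hK₁a⟩ := hperm
    let _ : MulAction P (Subgroup (MulAut V)) :=
      { smul := fun g K => c g K
        one_smul := fun K => hcone K
        mul_smul := fun g h K => (hcmul g h K).symm }
    obtain ⟨S, hSΩ, hS⟩ := BlockColoring.exists_subset (Ω := Subgroup (MulAut V)) hP hp2 Ω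
      (fun g K hK => hΩc g (hPH g.2) K hK)
    let vv : Subgroup (MulAut V) → V := fun K =>
      if h : K ∈ S ∧ ∃ u ∈ fixPts (K : Set (MulAut V)), u ≠ 1 then h.2.choose else 1
    have hvv : ∀ K ∈ Ω, vv K ∈ fixPts (K : Set (MulAut V)) := by
      intro K _
      by_cases h : K ∈ S ∧ ∃ u ∈ fixPts (K : Set (MulAut V)), u ≠ 1
      · simp only [vv, dif_pos h]; exact h.2.choose_spec.1
      · simp only [vv, dif_neg h]; exact Subgroup.one_mem _
    have hvS : ∀ K ∈ Ω, (vv K ≠ 1 ↔ K ∈ S) := by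
      intro K hK
      by_cases h : K ∈ S ∧ ∃ u ∈ fixPts (K : Set (MulAut V)), u ≠ 1
      · simp only [vv, dif_pos h]; exact iff_of_true h.2.choose_spec.2 h.1
      · simp only [vv, dif_neg h]
        refine iff_of_false (fun h' => h' rfl) fun h' => h ⟨h', ?_⟩
        exact (Subgroup.bot_or_exists_ne_one _).resolve_left ((hΩm K).mp hK).2.2
    refine ⟨∏ K ∈ Ω, vv K, fun h hh hfix => ?_⟩
    set x := h * a * h⁻¹ with hx
    have hxP : x ∈ P := hnorm h hh a haP
    have hxS : ∀ K ∈ S, (⟨x, hxP⟩ : P) • K ∈ S := by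
      intro K hK
      have h1 := hcoord vv hvv x (hPH hxP) hfix K (hSΩ hK)
      refine (hvS _ (hΩc x (hPH hxP) K (hSΩ hK))).mp fun e => ?_
      rw [e, map_eq_one_iff _ x.injective] at h1
      exact (hvS K (hSΩ hK)).mpr hK h1
    have h2 : c x (c h K₁) = c h K₁ := hS ⟨x, hxP⟩ hxS _ (hΩc h hh K₁ hK₁)
    rw [hcmul, hx, inv_mul_cancel_right, ← hcmul] at h2
    refine hK₁a ?_
    have h3 := congrArg (c h⁻¹) h2
    rwa [hcmul, inv_mul_cancel, hcone, hcmul, inv_mul_cancel, hcone] at h3

theorem moved_all (hp2 : p ≠ 2) : ∀ n, Moved.{u} p n := by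
  intro n
  induction n with
  | zero => intro V _ _ hV; exact absurd hV (not_le.mpr Nat.card_pos)
  | succ n ih =>
    intro V _ _ hV hcop H P hPH hnorm hP a haP hap ha1
    by_cases hred : ∃ U : Subgroup V, (∀ h ∈ H, ∀ u ∈ U, h u ∈ U) ∧ U ≠ ⊥ ∧ U ≠ ⊤
    · obtain ⟨U, hU, hUb, hUt⟩ := hred
      have hUlt : Nat.card U < Nat.card V :=
        lt_of_le_of_ne (Subgroup.card_le_card_group U) fun e => hUt (Subgroup.eq_top_of_card_eq U e)
      by_cases haU : ∀ u ∈ U, a u = u
      · have hq : Nat.card (V ⧸ U) < Nat.card V := by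
          have h := Subgroup.card_eq_card_quotient_mul_card_subgroup U
          have h1 : 1 < Nat.card U := (Subgroup.one_lt_card_iff_ne_bot _).mpr hUb
          have h2 : 0 < Nat.card (V ⧸ U) := Nat.card_pos
          nlinarith
        obtain ⟨w, hw⟩ := descend ih hnorm hP hap (S := H) le_rfl (hPH haP) haP (W := V ⧸ U)
          (by omega) (hcop.coprime_dvd_left (Subgroup.card_quotient_dvd_card U))
          (quotAct U H hU) (fun e => ha1 (eq_one_of_series hcop (n := 1) (by rw [pow_one, hap]) haU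
            fun v => by
              have h1 := congrArg (fun f : MulAut (V ⧸ U) => f (v : V ⧸ U)) e
              simp only [quotAct_mk, MulAut.one_apply] at h1
              exact QuotientGroup.eq.mp h1.symm))
        induction w using QuotientGroup.induction_on with | _ v => ?_
        refine ⟨v, fun h hh e => hw h hh ?_⟩
        rw [quotAct_mk]
        exact congrArg _ e
      · push Not at haU
        obtain ⟨u₀, hu₀, hau₀⟩ := haU
        obtain ⟨w, hw⟩ := descend ih hnorm hP hap (S := H) le_rfl (hPH haP) haP (W := U) (by omega)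
          (hcop.coprime_dvd_left (Subgroup.card_subgroup_dvd_card U)) (restr U H hU)
          (fun e => hau₀ (congrArg (fun f : MulAut U => ((f ⟨u₀, hu₀⟩ : U) : V)) e))
        exact ⟨w, fun h hh e => hw h hh (Subtype.ext e)⟩
    · have hirr : ∀ U : Subgroup V, (∀ h ∈ H, ∀ u ∈ U, h u ∈ U) → U = ⊥ ∨ U = ⊤ :=
        fun U hU => or_iff_not_imp_left.mpr fun hb => by
          by_contra ht
          exact hred ⟨U, hU, hb, ht⟩
      by_cases hsmall : ∀ B : Subgroup (MulAut V), B ≤ P → (∀ h ∈ H, ∀ x ∈ B, h * x * h⁻¹ ∈ B) →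
          (∀ x ∈ B, ∀ y ∈ B, Commute x y) → (∀ x ∈ B, x ^ p = 1) → Nat.card B ≤ p
      · exact primitive_case hp2 hcop hPH hnorm hP hirr hsmall haP hap ha1
      · push Not at hsmall
        obtain ⟨B, hB1, hB2, hB3, hB4, hB5⟩ := hsmall
        exact imprimitive_case ih hp2 hV hcop hPH hnorm hP hirr hB1 hB2 hB3 hB4 hB5 haP hap ha1

end Cfsg.Agent.Lib.RegularVector
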