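import Cfsg.Agent.Lib.RegularVector.Main
import Cfsg.Agent.Lib.Cores.Basic
import Mathlib.GroupTheory.Solvable

/-!
In a finite solvable group, `p` odd, an element generating a `p`-group with a suitable conjugate for
every conjugacy class lies in the `p`-core.
-/

set_option autoImplicit false
set_option linter.unusedSectionVars false
set_option linter.style.haveILetI false
set_option maxHeartbeats 400000

open Cfsg
open scoped Pointwise

namespace Cfsg.Agent.Lib.RegularVector

universe u

/-- Every conjugacy class has a member `g` such that `a` and `g a g⁻¹` generate a `p`-group. -/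
def PPair (p : ℕ) {G : Type u} [Group G] (a : G) : Prop :=
  ∀ c : G, ∃ g : G, IsConj c g ∧ IsPGroup p (Subgroup.closure ({a, g * a * g⁻¹} : Set G))

variable {G : Type u} [Group G] [Finite G] {p : ℕ} [hp : Fact p.Prime]

theorem PPair.pow {a : G} (h : PPair p a) (k : ℕ) : PPair p (a ^ k) := by
  intro c
  obtain ⟨g, hg, hS⟩ := h c
  refine ⟨g, hg, IsPGroup.to_le hS ?_⟩
  rw [Subgroup.closure_le]
  intro x hx
  rcases hx with hx | hx
  · subst hx
    exact Subgroup.pow_mem _ (Subgroup.subset_closure (Set.mem_insert a {g * a * g⁻¹})) k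
  · rw [Set.mem_singleton_iff] at hx
    rw [SetLike.mem_coe, hx, ← conj_pow]
    exact Subgroup.pow_mem _ (Subgroup.subset_closure
      (Set.mem_insert_of_mem a (Set.mem_singleton (g * a * g⁻¹)))) k

theorem PPair.map {K : Type u} [Group K] {a : G} (h : PPair p a) (f : G →* K)
    (hf : Function.Surjective f) : PPair p (f a) := by
  intro c
  obtain ⟨c, rfl⟩ := hf c
  obtain ⟨g, hg, hS⟩ := h c
  refine ⟨f g, f.map_isConj hg, ?_⟩
  have := hS.map f
  rwa [MonoidHom.map_closure, Set.image_pair, map_mul, map_mul, map_inv] at this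

theorem PPair.of_subnormal {A : Subgroup G} (hA : IsPGroup p A)
    (h : ∀ c : G, ∃ g : G, IsConj c g ∧ (A.subgroupOf (A ⊔ MulAut.conj g • A)).IsSubnormal)
    {a : G} (ha : a ∈ A) : PPair p a := by
  intro c
  obtain ⟨g, hg, hsn⟩ := h c
  refine ⟨g, hg, ?_⟩
  set B := MulAut.conj g • A with hB
  set S := A ⊔ B with hS
  have hBp : IsPGroup p B := hA.map _
  have h1 : A.subgroupOf S ≤ pCore p S := Cores.IsSubnormal.le_pCore hsn hA.comap_subtype
  have h2 : IsPGroup p S := by
    have h3 : pCore p S ⊔ B.subgroupOf S = ⊤ := by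
      rw [eq_top_iff, ← Subgroup.subgroupOf_self, hS,
        Subgroup.subgroupOf_sup le_sup_left le_sup_right]
      exact sup_le_sup_right h1 _
    have h4 := (Cores.pCore_isPGroup (G := S) p).to_sup_of_normal_left
      (hBp.comap_subtype (K := S))
    change IsPGroup p ↥(pCore p S ⊔ B.subgroupOf S) at h4
    rw [h3] at h4
    exact h4.of_equiv Subgroup.topEquiv
  refine IsPGroup.to_le h2 ?_
  rw [Subgroup.closure_le]
  intro x hx
  rcases hx with hx | hx
  · subst hx; exact Subgroup.mem_sup_left ha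
  · rw [Set.mem_singleton_iff] at hx
    subst hx
    exact Subgroup.mem_sup_right ⟨a, ha, by simp⟩

theorem not_ppair_of_order (hp2 : p ≠ 2) (hG : Group.IsSolvable G) (hcore : pCore p G = ⊥)
    (ih : ∀ (Q : Type u) [Group Q] [Finite Q], Nat.card Q < Nat.card G → Group.IsSolvable Q →
      ∀ a : Q, PPair p a → a ∈ pCore p Q)
    {a : G} (ha : orderOf a = p) (h : PPair p a) : False := by
  classical
  haveI : Nontrivial G := ⟨⟨a, 1, fun e => hp.out.ne_one (by rw [← ha, e, orderOf_one])⟩⟩
  obtain ⟨V, ⟨hVn, hVb⟩, hVmin⟩ :=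
    (Set.toFinite {V : Subgroup G | V.Normal ∧ V ≠ ⊥}).exists_minimal ⟨⊤, inferInstance, top_ne_bot⟩
  -- `V` is abelian
  have hVc : ⁅V, V⁆ = ⊥ := by
    by_contra hne
    have hle : ⁅V, V⁆ ≤ V := Subgroup.commutator_le_self V
    have heq : ⁅V, V⁆ = V := le_antisymm hle (hVmin ⟨inferInstance, hne⟩ hle)
    haveI := hG
    exact hVb (le_bot_iff.mp (by
      obtain ⟨n, hn⟩ := hG.solvable
      have : ∀ k, V ≤ derivedSeries G k := by
        intro k
        induction k with
        | zero => simp
        | succ k ih => rw [derivedSeries_succ, ← heq]; exact Subgroup.commutator_mono ih ih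
      exact hn ▸ this n))
  have hVcomm : ∀ x ∈ V, ∀ y ∈ V, x * y = y * x := fun x hx y hy =>
    (Subgroup.mem_centralizer_iff.mp (Subgroup.commutator_eq_bot_iff_le_centralizer.mp hVc hy) x hx)
  -- `p` does not divide its order
  have hcop : (Nat.card V).Coprime p := by
    refine Nat.Coprime.symm (hp.out.coprime_iff_not_dvd.mpr fun hd => ?_)
    obtain ⟨P⟩ : Nonempty (Sylow p V) := inferInstance
    have hPn : (P : Subgroup V).Normal := ⟨fun x hx y => by
      rw [show y * x = x * y from Subtype.ext (hVcomm _ y.2 _ x.2), mul_inv_cancel_right]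
      exact hx⟩
    haveI : (P : Subgroup V).Characteristic := P.characteristic_of_normal hPn
    haveI := Cores.normal_map_subtype V (P : Subgroup V)
    have h1 := Cores.le_pCore (P.isPGroup'.map V.subtype)
    rw [hcore, le_bot_iff, Subgroup.map_eq_bot_iff_of_injective _ V.subtype_injective] at h1
    exact P.ne_bot_of_dvd_card hd h1
  -- the preimage of the `p`-core modulo `V`
  have hq : Nat.card (G ⧸ V) < Nat.card G := by
    rw [← Subgroup.index_eq_card, ← V.card_mul_index]
    exact lt_mul_of_one_lt_left (Nat.pos_of_ne_zero Subgroup.index_ne_zero_of_finite)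
      ((Subgroup.one_lt_card_iff_ne_bot _).mpr hVb)
  haveI := hG
  set K := (pCore p (G ⧸ V)).comap (QuotientGroup.mk' V) with hK
  have haK : a ∈ K := ih (G ⧸ V) hq inferInstance _ (h.map (QuotientGroup.mk' V)
    (QuotientGroup.mk'_surjective V))
  have hKn : K.Normal := by rw [hK]; infer_instance
  have hKpow : ∀ x ∈ K, ∃ k, x ^ p ^ k ∈ V := by
    intro x hx
    obtain ⟨k, hk⟩ := Cores.pCore_isPGroup (G := G ⧸ V) p ⟨_, hx⟩
    refine ⟨k, (QuotientGroup.eq_one_iff _).mp ?_⟩
    have := congrArg Subtype.val hk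
    simpa using this
  -- `a` acts nontrivially on `V`
  let φ : G →* MulAut V := MulAut.conjNormal
  have hφV : ∀ x ∈ V, φ x = 1 := fun x hx => MulEquiv.ext fun v => Subtype.ext (by
    simp [φ, MulAut.conjNormal_apply, hVcomm x hx v v.2])
  have hφa : φ a ≠ 1 := by
    intro e
    set C := K ⊓ φ.ker with hC
    haveI : C.Normal := Subgroup.normal_inf_normal _ _
    have haC : a ∈ C := ⟨haK, e⟩
    obtain ⟨P⟩ : Nonempty (Sylow p C) := inferInstance
    have hVK : V ≤ K := fun x hx => by
      rw [hK, Subgroup.mem_comap, QuotientGroup.mk'_apply, (QuotientGroup.eq_one_iff x).mpr hx]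
      exact Subgroup.one_mem _
    have hVC : V ≤ C := fun x hx => ⟨hVK hx, hφV x hx⟩
    have hquot : IsPGroup p (C ⧸ V.subgroupOf C) := by
      intro x
      induction x using QuotientGroup.induction_on with | _ x => ?_
      obtain ⟨k, hk⟩ := hKpow x x.2.1
      exact ⟨k, by
        rw [← QuotientGroup.mk_pow, QuotientGroup.eq_one_iff, Subgroup.mem_subgroupOf]
        simpa using hk⟩
    have htop : (P : Subgroup C).map (QuotientGroup.mk' (V.subgroupOf C)) = ⊤ := by
      have := (P.mapSurjective (QuotientGroup.mk'_surjective (V.subgroupOf C))).is_maximal'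
        (hquot.to_subgroup ⊤) le_top
      exact this.symm
    have hPn : (P : Subgroup C).Normal := by
      refine Subgroup.normalizer_eq_top_iff.mp (eq_top_iff.mpr fun x _ => ?_)
      obtain ⟨q, hq, e⟩ := (htop ▸ Subgroup.mem_top _ :
        QuotientGroup.mk' (V.subgroupOf C) x ∈ (P : Subgroup C).map (QuotientGroup.mk' (V.subgroupOf C)))
      rw [QuotientGroup.mk'_apply, QuotientGroup.mk'_apply, QuotientGroup.eq] at e
      have hcen : q⁻¹ * x ∈ Subgroup.center C := Subgroup.mem_center_iff.mpr fun y => by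
        have hy : φ (y : G) = 1 := y.2.2
        have := congrArg (fun f : MulAut V => ((f ⟨_, e⟩ : V) : G)) hy
        simp only [φ, MulAut.conjNormal_apply, MulAut.one_apply] at this
        exact Subtype.ext (mul_inv_eq_iff_eq_mul.mp this)
      rw [← mul_inv_cancel_left q x]
      exact Subgroup.mul_mem _ (Subgroup.le_normalizer hq)
        (Subgroup.center_le_normalizer _ hcen)
    haveI : (P : Subgroup C).Characteristic := P.characteristic_of_normal hPn
    haveI := Cores.normal_map_subtype C (P : Subgroup C)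
    have h1 := Cores.le_pCore (P.isPGroup'.map C.subtype)
    rw [hcore, le_bot_iff, Subgroup.map_eq_bot_iff_of_injective _ C.subtype_injective] at h1
    refine P.ne_bot_of_dvd_card ?_ h1
    rw [← ha, ← Subgroup.orderOf_mk a haC]
    exact orderOf_dvd_natCard _
  let _ : CommGroup V := { (inferInstance : Group V) with
    mul_comm := fun x y => Subtype.ext (hVcomm x x.2 y y.2) }
  obtain ⟨v, hv⟩ := moved_all hp2 (Nat.card V) V le_rfl hcop φ.range (K.map φ)
    (Subgroup.map_le_range φ K)
    (by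
      rintro _ ⟨g, rfl⟩ _ ⟨x, hx, rfl⟩
      exact ⟨g * x * g⁻¹, hKn.conj_mem x hx g, by simp⟩)
    (by
      rintro ⟨_, x, hx, rfl⟩
      obtain ⟨k, hk⟩ := hKpow x hx
      exact ⟨k, Subtype.ext (by rw [Subgroup.coe_pow, ← map_pow, hφV _ hk]; rfl)⟩)
    (φ a) ⟨a, haK, rfl⟩ (by rw [← map_pow, ← ha, pow_orderOf_eq_one, map_one]) hφa
  obtain ⟨g, hg, hS⟩ := h v
  obtain ⟨k, rfl⟩ := isConj_iff.mp hg
  set g := k * (v : G) * k⁻¹ with hgdef
  have hgV : g ∈ V := hVn.conj_mem _ v.2 k
  set w := g * a * g⁻¹ * a⁻¹ with hw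
  have hwV : w ∈ V := by
    rw [hw, show g * a * g⁻¹ * a⁻¹ = g * (a * g⁻¹ * a⁻¹) by group]
    exact V.mul_mem hgV (hVn.conj_mem _ (V.inv_mem hgV) a)
  have hw1 : w = 1 := by
    obtain ⟨j, hj⟩ := hS ⟨w, Subgroup.mul_mem _ (Subgroup.subset_closure
      (Set.mem_insert_of_mem a (Set.mem_singleton (g * a * g⁻¹))))
      (Subgroup.inv_mem _ (Subgroup.subset_closure (Set.mem_insert a {g * a * g⁻¹})))⟩
    have h1 : orderOf w ∣ p ^ j := orderOf_dvd_of_pow_eq_one (by simpa using congrArg Subtype.val hj)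
    have h2 : orderOf w ∣ Nat.card V := by
      rw [← Subgroup.orderOf_mk w hwV]; exact orderOf_dvd_natCard _
    exact orderOf_eq_one_iff.mp (Nat.eq_one_of_dvd_coprimes (hcop.pow_right j) h2 h1)
  refine hv (φ k⁻¹) ⟨k⁻¹, rfl⟩ (Subtype.ext ?_)
  rw [← map_inv, ← map_mul, ← map_mul, inv_inv]
  simp only [φ, MulAut.conjNormal_apply]
  have e : a * g * a⁻¹ = g := by
    rw [hw, mul_inv_eq_one, mul_inv_eq_iff_eq_mul] at hw1
    rw [← hw1, mul_inv_cancel_right]
  calc k⁻¹ * a * k * (v : G) * (k⁻¹ * a * k)⁻¹ = k⁻¹ * (a * g * a⁻¹) * k := by rw [hgdef]; group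
    _ = v := by rw [e, hgdef]; group

theorem mem_pCore_aux (hp2 : p ≠ 2) : ∀ (n : ℕ) (G : Type u) [Group G] [Finite G], Nat.card G ≤ n →
    Group.IsSolvable G → ∀ a : G, PPair p a → a ∈ pCore p G := by
  intro n
  induction n with
  | zero => intro G _ _ hG; exact absurd hG (not_le.mpr Nat.card_pos)
  | succ n ih =>
    intro G _ _ hn hG a ha
    haveI := hG
    by_cases hcore : pCore p G = ⊥
    · by_contra hne
      rw [hcore, Subgroup.mem_bot] at hne
      obtain ⟨g, -, hS⟩ := ha 1
      obtain ⟨j, hj⟩ := hS ⟨a, Subgroup.subset_closure (Set.mem_insert _ _)⟩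
      obtain ⟨k, -, hk⟩ := (Nat.dvd_prime_pow hp.out).mp
        (orderOf_dvd_of_pow_eq_one (by simpa using congrArg Subtype.val hj : a ^ p ^ j = 1))
      cases k with
      | zero => exact hne (orderOf_eq_one_iff.mp (by rw [hk, pow_zero]))
      | succ k =>
        refine not_ppair_of_order hp2 hG hcore (fun Q _ _ hQ => ih Q (by omega)) (a := a ^ p ^ k) ?_
          (ha.pow _)
        rw [orderOf_pow' _ (pow_ne_zero _ hp.out.ne_zero), hk,
          Nat.gcd_eq_right ⟨p, (pow_succ p k)⟩, pow_succ,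
          Nat.mul_div_cancel_left _ (pow_pos hp.out.pos k)]
    · have hlt : Nat.card (G ⧸ pCore p G) < Nat.card G := by
        rw [← Subgroup.index_eq_card, ← (pCore p G).card_mul_index]
        exact lt_mul_of_one_lt_left (Nat.pos_of_ne_zero Subgroup.index_ne_zero_of_finite)
          ((Subgroup.one_lt_card_iff_ne_bot _).mpr hcore)
      have h1 := ih (G ⧸ pCore p G) (by omega) inferInstance _
        (ha.map (QuotientGroup.mk' (pCore p G)) (QuotientGroup.mk'_surjective _))
      rw [Cores.pCore_quotient_pCore, Subgroup.mem_bot] at h1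
      exact (QuotientGroup.eq_one_iff a).mp h1

theorem le_pCore_of_subnormal_in_joins (hG : Group.IsSolvable G) (hp2 : p ≠ 2) {A : Subgroup G}
    (hA : IsPGroup p A)
    (h : ∀ c : G, ∃ g : G, IsConj c g ∧ (A.subgroupOf (A ⊔ MulAut.conj g • A)).IsSubnormal) :
    A ≤ pCore p G := fun a ha =>
  mem_pCore_aux hp2 (Nat.card G) G le_rfl hG a (PPair.of_subnormal hA h ha)

end Cfsg.Agent.Lib.RegularVector
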